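import Cfsg.Agent.LargeExtra.Local
set_option linter.all false

/-!
# Conjugates of a pair by elements of `C_G(z)`; `X_c` and `D_c` depend only on the point `c` (helper441)
-/

set_option autoImplicit false

namespace Cfsg.Agent.LargeExtra.KillNine.PairConj

open Cfsg.Agent.Co2Type.Quad Cfsg.Agent.LargeExtra.Base Cfsg.Agent.LargeExtra.Local

variable {G : Type*} [Group G] {Q A A' : Subgroup G} {z a a' : G}

theorem mem_map_conj {B : Subgroup G} {g x : G} :
    x ∈ B.map (MulAut.conj g).toMonoidHom ↔ g⁻¹ * x * g ∈ B := by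
  constructor
  · rintro ⟨y, hy, rfl⟩
    have : g⁻¹ * (g * y * g⁻¹) * g = y := by group
    show g⁻¹ * (g * y * g⁻¹) * g ∈ B
    rw [this]; exact hy
  · intro hx
    refine ⟨_, hx, ?_⟩
    show g * (g⁻¹ * x * g) * g⁻¹ = x
    group

theorem conj_z (c : Subgroup.centralizer ({z} : Set G)) :
    (c : G) * z * (c : G)⁻¹ = z := by
  rw [Subgroup.mem_centralizer_singleton_iff.1 c.2]; group

/-- the conjugate of a pair -/
theorem conj (p : Pair Q z A a) (c : Subgroup.centralizer ({z} : Set G)) :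
    Pair Q z (A.map (MulAut.conj (c : G)).toMonoidHom) (c * a * (c : G)⁻¹) where
  lz := p.lz
  la := p.la.conj c
  a_mem := p.lz.conj_mem c (Subgroup.mem_centralizer_singleton_iff.1 c.2) a p.a_mem
  z_mem := ⟨z, p.z_mem, conj_z c⟩
  ne := by
    intro h
    apply p.ne
    exact mul_left_cancel (mul_right_cancel (h.trans (conj_z c).symm))
  isConj := by
    obtain ⟨g, h1, h2, h3, h4⟩ := p.isConj
    have hcz := conj_z c
    have hcz' : (c : G)⁻¹ * z * c = z := by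
      calc (c : G)⁻¹ * z * c = (c : G)⁻¹ * (c * z * (c : G)⁻¹) * c := by rw [hcz]
        _ = z := by group
    have hcq : Q.map (MulAut.conj (c : G)).toMonoidHom = Q :=
      map_eq_self p.lz (Subgroup.mem_centralizer_singleton_iff.1 c.2)
    have hcq' : ∀ x, (c : G)⁻¹ * x * c ∈ Q ↔ x ∈ Q := fun x => by
      rw [← mem_map_conj, hcq]
    refine ⟨c * g * (c : G)⁻¹, ?_, ?_, ?_, ?_⟩
    · calc (c : G) * g * (c : G)⁻¹ * z * (c * g * (c : G)⁻¹)⁻¹
          = c * (g * ((c : G)⁻¹ * z * c) * g⁻¹) * (c : G)⁻¹ := by group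
        _ = c * a * (c : G)⁻¹ := by rw [hcz', h1]
    · calc (c : G) * g * (c : G)⁻¹ * (c * a * (c : G)⁻¹) * (c * g * (c : G)⁻¹)⁻¹
          = c * (g * a * g⁻¹) * (c : G)⁻¹ := by group
        _ = z := by rw [h2, hcz]
    · ext x
      rw [mem_map_conj, mem_map_conj, h3, mem_map_conj]
      rw [← hcq' ((c * g * (c : G)⁻¹)⁻¹ * x * (c * g * (c : G)⁻¹))]
      have e : (c : G)⁻¹ * ((c * g * (c : G)⁻¹)⁻¹ * x * (c * g * (c : G)⁻¹)) * c =
        g⁻¹ * ((c : G)⁻¹ * x * c) * g := by group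
      rw [e]
    · ext x
      rw [mem_map_conj, mem_map_conj]
      have e : (c : G)⁻¹ * ((c * g * (c : G)⁻¹)⁻¹ * x * (c * g * (c : G)⁻¹)) * c =
        g⁻¹ * ((c : G)⁻¹ * x * c) * g := by group
      rw [e, ← mem_map_conj, ← h4, hcq']
  cycle := by
    obtain ⟨g, h1, h2, h3⟩ := p.cycle
    have hcz := conj_z c
    have hcz' : (c : G)⁻¹ * z * c = z := by
      calc (c : G)⁻¹ * z * c = (c : G)⁻¹ * (c * z * (c : G)⁻¹) * c := by rw [hcz]
        _ = z := by group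
    refine ⟨c * g * (c : G)⁻¹, ?_, ?_, ?_⟩
    · calc (c : G) * g * (c : G)⁻¹ * z * (c * g * (c : G)⁻¹)⁻¹
          = c * (g * ((c : G)⁻¹ * z * c) * g⁻¹) * (c : G)⁻¹ := by group
        _ = c * a * (c : G)⁻¹ := by rw [hcz', h1]
    · calc (c : G) * g * (c : G)⁻¹ * (c * a * (c : G)⁻¹) * (c * g * (c : G)⁻¹)⁻¹
          = c * (g * a * g⁻¹) * (c : G)⁻¹ := by group
        _ = (c * a * (c : G)⁻¹) * (c * z * (c : G)⁻¹) := by rw [h2]; group
        _ = c * a * (c : G)⁻¹ * z := by rw [hcz]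
    · calc (c : G) * g * (c : G)⁻¹ * (c * a * (c : G)⁻¹ * z) * (c * g * (c : G)⁻¹)⁻¹
          = c * (g * (a * ((c : G)⁻¹ * z * c)) * g⁻¹) * (c : G)⁻¹ := by group
        _ = z := by rw [hcz', h3, hcz]

theorem va_conj (p : Pair Q z A a) (c : Subgroup.centralizer ({z} : Set G)) :
    (conj p c).va = p.lz.act c p.va := by
  show _ = p.lz.act c (p.lz.pr ⟨a, p.a_mem⟩)
  rw [p.lz.act_pr]
  rfl

theorem X_conj (p : Pair Q z A a) (c : Subgroup.centralizer ({z} : Set G))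
    {f : p.lz.V ≃ₗ[ZMod 2] p.lz.V} (hf : f ∈ p.X) :
    p.lz.act c * f * (p.lz.act c)⁻¹ ∈ (conj p c).X := by
  obtain ⟨d, hd, rfl⟩ := p.mem_X.1 hf
  rw [← map_mul, ← map_inv, ← map_mul]
  refine (conj p c).mem_X.2 ⟨c * d * c⁻¹, ⟨d, hd, rfl⟩, rfl⟩

theorem D_conj (p : Pair Q z A a) (c : Subgroup.centralizer ({z} : Set G)) {v : p.lz.V}
    (hv : v ∈ p.D) : p.lz.act c v ∈ (conj p c).D := by
  obtain ⟨x, hx, rfl⟩ := hv
  exact ⟨p.lz.conjQ c x, ⟨x, hx, rfl⟩, (p.lz.act_pr c x).symm⟩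

/-- pairs with the same `a` have the same `A` -/
theorem eq_of_eq (p : Pair Q z A a) (p' : Pair Q z A' a) : A = A' := by
  obtain ⟨g, h1, -, h3, -⟩ := p.isConj
  obtain ⟨g', h1', -, h3', -⟩ := p'.isConj
  rw [h3, h3']
  exact map_eq_of_conj p.lz (h1.trans h1'.symm)

theorem uniq_aux (p : Pair Q z A a) (p' : Pair Q z A' a') (h : p.va = p'.va) :
    p.X ≤ p'.X ∧ p.D ≤ p'.D := by
  rcases p.lz.pr_eq_pr.1 h with h1 | h1
  · have h2 : a = a' := h1
    subst h2
    obtain rfl := eq_of_eq p p'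
    exact ⟨le_rfl, le_rfl⟩
  · -- `a = a' z`
    have h2 : a = a' * z := h1
    obtain ⟨u, hu, hua⟩ := exists_not_comm p.lz p.a_mem p.la.z_ne p.ne
    have huC : u ∈ Subgroup.centralizer ({z} : Set G) :=
      Subgroup.mem_centralizer_singleton_iff.2 (p.lz.comm_z u hu)
    have h3 : u * a * u⁻¹ = a' := by
      rw [hua, h2]
      calc a' * z * u * z * u⁻¹ = a' * (z * (u * z)) * u⁻¹ := by group
        _ = a' * (z * (z * u)) * u⁻¹ := by rw [p.lz.comm_z u hu]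
        _ = a' * (z * z) := by group
        _ = a' := by rw [p.lz.z_sq, mul_one]
    have hact : p.lz.act ⟨u, huC⟩ = 1 := p.lz.act_mem ⟨u, huC⟩ hu
    have p2 := conj p ⟨u, huC⟩
    have hX : ∀ f ∈ p.X, f ∈ (conj p ⟨u, huC⟩).X := by
      intro f hf
      have := X_conj p ⟨u, huC⟩ hf
      rw [hact] at this
      simpa using this
    have hD : ∀ v ∈ p.D, v ∈ (conj p ⟨u, huC⟩).D := by
      intro v hv
      have := D_conj p ⟨u, huC⟩ hv
      rw [hact] at this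
      exact this
    have key : ∀ (A₁ : Subgroup G) (a₁ : G) (p₁ : Pair Q z A₁ a₁), a₁ = a' →
        p₁.X ≤ p'.X ∧ p₁.D ≤ p'.D := by
      intro A₁ a₁ p₁ ha
      subst ha
      obtain rfl := eq_of_eq p₁ p'
      exact ⟨le_rfl, le_rfl⟩
    obtain ⟨k1, k2⟩ := key _ _ (conj p ⟨u, huC⟩) h3
    exact ⟨fun f hf => k1 (hX f hf), fun v hv => k2 (hD v hv)⟩

/-- `X` depends only on the point `ã` -/
theorem X_eq (p : Pair Q z A a) (p' : Pair Q z A' a') (h : p.va = p'.va) : p.X = p'.X :=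
  le_antisymm (uniq_aux p p' h).1 (uniq_aux p' p h.symm).1

/-- `D` depends only on the point `ã` -/
theorem D_eq (p : Pair Q z A a) (p' : Pair Q z A' a') (h : p.va = p'.va) : p.D = p'.D :=
  le_antisymm (uniq_aux p p' h).2 (uniq_aux p' p h.symm).2

/-- if `c̃ = f ã` with `f ∈ H` then `X_c = f X_a f⁻¹` -/
theorem mem_X_of_orbit (p : Pair Q z A a) (p' : Pair Q z A' a') {f : p.lz.V ≃ₗ[ZMod 2] p.lz.V}
    (hf : f ∈ p.H) (h : p'.va = f p.va) {x : p.lz.V ≃ₗ[ZMod 2] p.lz.V} (hx : x ∈ p.X) :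
    f * x * f⁻¹ ∈ p'.X := by
  obtain ⟨c, rfl⟩ := hf
  have h1 := X_conj p c hx
  have h2 : (conj p c).va = p'.va := by rw [va_conj]; exact h.symm
  have h3 := X_eq (conj p c) p' h2
  exact h3 ▸ h1

theorem card_D_of_orbit [Finite G] (p : Pair Q z A a) (p' : Pair Q z A' a')
    {f : p.lz.V ≃ₗ[ZMod 2] p.lz.V} (hf : f ∈ p.H) (h : p'.va = f p.va) :
    Nat.card p'.D = Nat.card p.D := by
  obtain ⟨c, rfl⟩ := hf
  have h2 : (conj p c).va = p'.va := by rw [va_conj]; exact h.symm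
  have h3 : (conj p c).D = p'.D := D_eq (conj p c) p' h2
  have h4 : (conj p c).D = p.D.map (p.lz.act c : p.lz.V →ₗ[ZMod 2] p.lz.V) := by
    ext v
    constructor
    · intro hv
      have h5 := D_conj (conj p c) c⁻¹ hv
      refine ⟨p.lz.act c⁻¹ v, ?_, ?_⟩
      · have h6 : (conj (conj p c) c⁻¹).va = p.va := by
          rw [va_conj (conj p c) c⁻¹, va_conj p c]
          show ((p.lz.act c⁻¹) * (p.lz.act c)) p.va = p.va
          rw [← map_mul, inv_mul_cancel, map_one]; rfl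
        have h7 := D_eq (conj (conj p c) c⁻¹) p h6
        exact h7 ▸ h5
      · show ((p.lz.act c) * (p.lz.act c⁻¹)) v = v
        rw [← map_mul, mul_inv_cancel, map_one]; rfl
    · rintro ⟨w, hw, rfl⟩
      exact D_conj p c hw
  rw [← h3, h4]
  exact (Nat.card_congr (LinearEquiv.submoduleMap (p.lz.act c) p.D).toEquiv).symm

/-- a point of the orbit comes from a pair -/
theorem exists_pair (p : Pair Q z A a) {f : p.lz.V ≃ₗ[ZMod 2] p.lz.V} (hf : f ∈ p.H) :
    ∃ (A' : Subgroup G) (a' : G) (p' : Pair Q z A' a'), p'.va = f p.va := by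
  obtain ⟨c, rfl⟩ := hf
  exact ⟨_, _, conj p c, va_conj p c⟩

end Cfsg.Agent.LargeExtra.KillNine.PairConj
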