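import Cfsg.Agent.LargeExtra.KillNine.Pts
set_option linter.all false

/-!
# The conjugates of `z` in `Q` for `confK3` (helper441, generated)
-/

set_option autoImplicit false
set_option maxRecDepth 1000000

namespace Cfsg.Agent.LargeExtra.KillNine.PtsK3

open Cfsg.Agent.Co2Type.Quad Cfsg.Agent.LargeExtra.Base Cfsg.Agent.LargeExtra.Nine
open Cfsg.Agent.LargeExtra.KillNine.Pts Cfsg.Agent.LargeExtra.KillNine.Codes

variable {G : Type*} [Group G] {Q A : Subgroup G} {z a : G}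

def g0 : List ℕ := [1,2,4,9,144,36,66,128]
def g1 : List ℕ := [1,2,5,8,80,40,64,130]
def g2 : List ℕ := [1,3,4,8,51,33,72,132]
def g3 : List ℕ := [123,144,20,36,16,28,194,18]
def g4 : List ℕ := [235,144,150,118,16,220,194,18]
def g5 : List ℕ := [225,210,56,52,16,32,128,64]
def g6 : List ℕ := [7,128,134,96,16,88,80,2]
def g7 : List ℕ := [1,2,4,8,18,33,64,128]

/-- the points of `confK3` -/
def orb : List ℕ := [
    1, 2, 3, 6, 7, 10, 11, 12, 13, 16, 18, 48, 51, 64, 66, 72, 75, 80, 82, 120, 123, 128, 130, 132,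
    135, 144, 146, 180, 183, 192, 194, 204, 207, 208, 210, 224, 225, 230, 231, 234, 235, 236, 237,
    252, 255]

def s0_0 : List ℕ := [1,3,4,14,180,164,204,132]
def s0_1 : List ℕ := [130,132,4,22,51,63,252,3]

def T0 : List (ℕ × List ℕ × List ℕ) := [
  (4,idL,idL), (5,[1,2,5,8,80,40,64,130],[1,2,5,8,80,40,64,130]),
  (20,[123,144,20,36,16,28,194,18],[123,144,20,36,16,28,194,18]),
  (150,[235,144,150,118,16,220,194,18],[235,144,150,118,16,220,194,18]),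
  (56,[225,210,56,52,16,32,128,64],[225,210,56,52,16,32,128,64]),
  (134,[7,128,134,96,16,88,80,2],[7,128,134,96,16,88,80,2]),
  (111,[123,144,111,36,210,56,194,130],[51,210,85,45,80,93,192,82]),
  (125,[235,144,125,118,210,170,194,130],[225,210,213,63,80,159,192,82]),
  (217,[225,210,217,52,144,20,128,146],[235,144,112,125,80,40,130,64]),
  (129,[7,128,129,96,64,56,80,130],[6,130,133,104,80,24,16,2]),
  (148,[252,16,148,32,144,157,192,146],[123,144,20,95,2,8,82,18]),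
  (85,[51,210,85,45,80,93,192,82],[123,144,111,36,210,56,194,130]),
  (55,[80,183,55,37,51,63,207,48],[123,235,20,36,231,103,230,6]),
  (40,[183,80,40,24,16,28,18,194],[183,80,40,24,16,28,18,194]),
  (22,[120,146,22,37,18,30,194,16],[123,144,20,36,128,103,194,18]),
  (213,[225,210,213,63,80,159,192,82],[235,144,125,118,210,170,194,130]),
  (176,[231,183,176,93,51,243,207,48],[235,123,150,118,183,55,180,132]),
  (186,[231,80,186,90,16,220,18,194],[231,80,186,90,16,220,18,194]),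
  (189,[231,80,189,176,144,36,128,66],[225,210,56,213,80,24,82,64]),
  (112,[235,144,112,125,80,40,130,64],[225,210,217,52,144,20,128,146]),
  (26,[236,252,26,22,51,33,132,72],[225,51,56,52,3,193,180,120]),
  (59,[224,208,59,55,18,33,128,64],[225,210,56,52,194,193,128,64]),
  (133,[6,130,133,104,80,24,16,2],[7,128,129,96,64,56,80,130]),
  (131,[6,132,131,105,51,115,123,3],[7,135,134,96,207,95,48,132]),
  (170,[11,64,170,160,16,164,144,210],[13,194,40,206,16,88,2,80]),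
  (104,[252,16,104,32,80,189,192,130],[51,210,85,30,2,8,18,82]),
  (102,[51,210,102,45,144,112,192,128],[51,210,102,45,144,112,192,128]),
  (103,[80,183,103,37,252,26,207,135],[51,225,85,45,236,110,237,7]),
  (159,[183,80,159,24,2,4,18,146],[252,16,32,88,80,93,82,192]),
  (105,[255,18,105,222,194,40,210,130],[180,82,213,157,80,189,144,210]),
  (110,[120,146,110,37,208,59,194,130],[51,210,85,45,130,110,192,82]),
  (250,[236,16,250,240,80,175,192,130],[225,210,213,222,2,74,18,82]),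
  (52,[225,210,52,63,144,160,192,128],[225,210,52,63,144,160,192,128]),
  (87,[231,183,87,93,252,174,207,135],[225,51,213,63,252,126,255,135]),
  (93,[231,80,93,90,2,134,18,146],[236,16,240,26,80,159,82,192]),
  (249,[237,18,249,30,194,186,210,130],[230,82,85,95,80,175,144,210]),
  (126,[234,146,126,117,208,171,194,130],[225,210,213,63,130,126,192,82]),
  (90,[231,80,90,176,16,148,128,18],[235,144,112,150,16,88,18,64]),
  (155,[235,144,155,125,210,85,130,208],[235,144,155,125,210,85,130,208]),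
  (246,[236,252,246,22,183,55,132,180],[235,123,112,125,3,195,255,48]),
  (37,[13,194,37,206,18,150,2,146],[11,64,160,170,80,175,210,144]),
  (219,[224,208,219,55,146,22,128,144],[235,144,112,125,192,195,130,64]),
  (161,[11,64,161,160,128,4,144,146],[12,192,32,205,80,24,2,16]),
  (215,[183,80,215,40,210,222,194,208],[123,144,111,95,80,87,82,130]),
  (179,[210,51,179,33,183,186,204,180],[123,235,20,95,225,115,13,6]),
  (175,[183,80,175,215,210,217,208,66],[183,80,175,215,210,217,208,66]),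
  (73,[3,2,73,205,144,125,192,66],[3,2,206,133,210,56,130,194]),
  (193,[207,194,193,185,64,161,82,192],[132,130,125,250,210,52,16,144]),
  (243,[210,225,243,115,231,215,11,12],[210,225,243,115,231,215,11,12]),
  (33,[210,51,33,161,183,87,75,204],[51,225,30,153,231,55,11,12]),
  (45,[51,210,45,153,144,157,146,192],[183,80,40,175,210,52,66,194]),
  (32,[252,16,32,88,80,93,82,192],[183,80,159,24,2,4,18,146]),
  (41,[144,123,41,59,51,63,48,207],[183,231,40,24,235,171,10,234]),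
  (9,[1,2,9,15,144,111,192,66],[1,2,14,5,210,170,130,194]),
  (195,[13,194,195,41,64,115,82,192],[6,130,111,104,210,102,16,144]),
  (30,[51,225,30,153,231,55,11,12],[210,51,33,161,183,87,75,204]),
  (222,[225,51,222,217,183,103,75,204],[225,51,222,217,183,103,75,204]),
  (74,[11,75,74,161,207,157,51,72],[6,132,105,131,183,117,3,123]),
  (63,[225,210,63,217,144,95,146,192],[231,80,186,189,210,102,66,194]),
  (240,[236,16,240,26,80,159,82,192],[231,80,93,90,2,134,18,146]),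
  (157,[235,123,157,112,51,243,48,207],[231,183,186,90,123,59,72,120]),
  (185,[230,82,185,88,18,222,16,194],[231,80,186,90,64,59,18,194]),
  (171,[11,64,171,74,18,222,2,208],[11,64,170,74,80,215,2,210]),
  (190,[230,82,190,179,146,37,128,66],[225,210,56,213,130,249,82,64]),
  (206,[3,2,206,133,210,56,130,194],[3,2,73,205,144,125,192,66]),
  (14,[1,2,14,5,210,170,130,194],[1,2,9,15,144,111,192,66]),
  (24,[237,18,24,249,64,56,130,80],[234,146,153,148,144,36,16,210]),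
  (115,[234,146,115,126,82,41,130,64],[225,210,217,52,66,245,128,146]),
  (164,[252,236,164,148,231,103,6,230],[144,123,59,249,3,15,255,48]),
  (153,[234,146,153,148,144,36,16,210],[237,18,24,249,64,56,130,80]),
  (160,[11,64,160,170,80,175,210,144],[13,194,37,206,18,150,2,146]),
  (174,[10,72,174,165,51,161,183,252],[13,207,40,206,135,85,204,120]),
  (96,[183,80,96,40,16,246,194,128],[51,210,102,30,16,22,18,128]),
  (97,[210,51,97,33,123,155,204,135],[51,225,85,30,235,59,12,7]),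
  (220,[252,16,220,88,2,5,82,208],[252,16,220,88,2,5,82,208]),
  (117,[207,194,117,14,18,20,2,146],[75,64,112,56,80,189,210,144]),
  (8,[1,2,8,15,80,96,192,64],[1,2,15,4,144,160,128,192]),
  (65,[11,75,65,161,252,60,51,3],[7,135,97,129,252,60,3,51]),
  (28,[236,16,28,26,2,133,82,208],[236,16,28,26,2,133,82,208]),
  (118,[235,123,118,112,3,131,48,180],[236,252,240,26,51,115,72,48]),
  (95,[230,82,95,88,2,134,16,144],[236,16,240,26,64,115,82,192]),
  (88,[230,82,88,179,18,150,128,16],[235,144,112,150,128,179,18,64]),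
  (205,[3,2,205,133,80,189,130,192],[3,2,73,206,210,52,194,66]),
  (15,[1,2,15,5,80,175,130,192],[1,2,9,14,210,102,194,66]),
  (245,[237,18,245,249,194,193,130,66],[224,208,219,215,210,45,80,144]),
  (44,[12,192,44,205,82,213,2,208],[11,64,171,170,130,5,210,208]),
  (36,[13,207,36,195,48,176,3,180],[11,75,160,170,180,164,120,48]),
  (165,[10,66,165,73,146,22,2,18],[11,64,160,65,192,63,66,144]),
  (67,[75,64,67,56,194,36,210,66],[132,130,125,5,80,93,2,144]),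
  (60,[16,236,60,190,235,20,10,12],[210,225,33,161,1,133,234,237])]

def L0 : List (List ℕ × List (List ℕ)) := [
  (idL,[]), ([130,132,4,22,51,63,252,3],[s0_1]), ([1,3,4,14,180,164,204,132],[s0_0]),
  ([1,2,4,9,144,36,66,128],[s0_0,s0_0]), ([135,7,4,179,10,24,225,6],[s0_1,s0_1]),
  ([130,6,4,150,11,56,237,7],[s0_0,s0_1]), ([135,128,4,179,18,24,82,2],[s0_1,s0_0]),
  ([135,7,4,55,12,30,231,6],[s0_0,s0_1,s0_0]), ([1,3,4,15,48,160,207,132],[s0_0,s0_0,s0_0]),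
  ([130,6,4,150,13,186,237,7],[s0_1,s0_1,s0_0]), ([1,3,4,9,183,37,75,132],[s0_1,s0_0,s0_1]),
  ([135,128,4,176,16,26,80,2],[s0_0,s0_1,s0_1]), ([130,132,4,150,183,186,123,3],[s0_1,s0_0,s0_0]),
  ([1,2,4,9,146,37,66,128],[s0_1,s0_1,s0_1]), ([130,132,4,148,48,59,120,3],[s0_0,s0_0,s0_1]),
  ([135,7,4,52,12,28,230,6],[s0_0,s0_0,s0_1,s0_1]),
  ([130,6,4,22,10,189,234,7],[s0_0,s0_1,s0_0,s0_0]),
  ([135,128,4,55,146,153,208,2],[s0_1,s0_0,s0_0,s0_0]),
  ([1,2,4,14,18,165,194,128],[s0_0,s0_1,s0_0,s0_1]),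
  ([135,7,4,55,11,153,231,6],[s0_1,s0_1,s0_0,s0_0]),
  ([130,6,4,148,13,185,236,7],[s0_1,s0_0,s0_1,s0_1]),
  ([1,2,4,15,146,161,192,128],[s0_1,s0_0,s0_1,s0_0]),
  ([135,7,4,176,13,157,224,6],[s0_1,s0_0,s0_0,s0_1]),
  ([1,3,4,15,51,161,207,132],[s0_0,s0_1,s0_1,s0_1]),
  ([135,128,4,52,16,28,210,2],[s0_0,s0_0,s0_1,s0_0]),
  ([135,128,4,176,144,157,80,2],[s0_1,s0_1,s0_0,s0_1]),
  ([130,132,4,148,180,185,120,3],[s0_0,s0_1,s0_1,s0_0]),
  ([130,6,4,20,12,60,235,7],[s0_0,s0_0,s0_0,s0_1]),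
  ([1,3,4,8,51,33,72,132],[s0_0,s0_0,s0_1,s0_0,s0_1]),
  ([1,2,4,8,18,33,64,128],[s0_0,s0_0,s0_1,s0_1,s0_1]),
  ([135,128,4,52,144,155,210,2],[s0_0,s0_1,s0_1,s0_0,s0_0]),
  ([130,6,4,20,10,190,235,7],[s0_0,s0_0,s0_1,s0_1,s0_0]),
  ([1,2,4,14,16,164,194,128],[s0_1,s0_1,s0_0,s0_0,s0_1]),
  ([130,6,4,148,11,59,236,7],[s0_1,s0_0,s0_0,s0_1,s0_0]),
  ([135,128,4,55,18,30,208,2],[s0_0,s0_0,s0_0,s0_1,s0_1]),
  ([130,6,4,22,12,63,234,7],[s0_1,s0_1,s0_0,s0_0,s0_0]),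
  ([1,2,4,15,144,160,192,128],[s0_1,s0_0,s0_0,s0_1,s0_1]),
  ([135,7,4,176,10,26,224,6],[s0_0,s0_0,s0_0,s0_1,s0_0]),
  ([135,7,4,179,13,159,225,6],[s0_0,s0_1,s0_0,s0_0,s0_0]),
  ([130,132,4,20,180,190,255,3],[s0_0,s0_0,s0_1,s0_0,s0_0]),
  ([135,128,4,179,146,159,82,2],[s0_0,s0_1,s0_0,s0_0,s0_1]),
  ([135,7,4,52,11,155,230,6],[s0_0,s0_1,s0_1,s0_0,s0_1]),
  ([130,132,4,22,183,189,252,3],[s0_0,s0_0,s0_0,s0_1,s0_1,s0_0]),
  ([1,3,4,8,48,32,72,132],[s0_0,s0_1,s0_1,s0_0,s0_0,s0_1]),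
  ([130,132,4,20,48,60,255,3],[s0_0,s0_1,s0_1,s0_0,s0_0,s0_0]),
  ([130,132,4,150,51,56,123,3],[s0_0,s0_1,s0_0,s0_0,s0_1,s0_0]),
  ([1,3,4,14,183,165,204,132],[s0_0,s0_0,s0_0,s0_1,s0_1,s0_1]),
  ([1,3,4,9,180,36,75,132],[s0_0,s0_1,s0_0,s0_0,s0_1,s0_1])]

def W0 : List (ℕ × List (List ℕ)) := [
  (4,[]), (5,[g1]), (20,[g3]), (150,[g4]), (56,[g5]), (134,[g6]), (111,[g1,g3]), (125,[g1,g4]),
  (217,[g1,g5]), (129,[g1,g6]), (148,[g3,g0]), (85,[g3,g1]), (55,[g3,g2]), (40,[g3,g5]),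
  (22,[g4,g0]), (213,[g4,g1]), (176,[g4,g2]), (186,[g4,g5]), (189,[g5,g0]), (112,[g5,g1]),
  (26,[g5,g2]), (133,[g6,g1]), (131,[g6,g2]), (170,[g6,g5]), (104,[g1,g3,g0]), (102,[g1,g3,g1]),
  (103,[g1,g3,g2]), (159,[g1,g3,g5]), (105,[g1,g3,g6]), (250,[g1,g4,g0]), (52,[g1,g4,g1]),
  (87,[g1,g4,g2]), (93,[g1,g4,g5]), (249,[g1,g4,g6]), (90,[g1,g5,g0]), (155,[g1,g5,g1]),
  (246,[g1,g5,g2]), (37,[g1,g5,g6]), (161,[g1,g6,g5]), (215,[g3,g0,g1]), (179,[g3,g0,g2]),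
  (126,[g3,g1,g2]), (175,[g3,g1,g4]), (73,[g3,g1,g5]), (193,[g3,g1,g6]), (243,[g3,g2,g3]),
  (33,[g3,g2,g4]), (59,[g3,g2,g5]), (45,[g3,g5,g0]), (32,[g3,g5,g1]), (41,[g3,g5,g2]),
  (9,[g4,g1,g5]), (195,[g4,g1,g6]), (30,[g4,g2,g3]), (222,[g4,g2,g4]), (74,[g4,g2,g6]),
  (63,[g4,g5,g0]), (240,[g4,g5,g1]), (157,[g4,g5,g2]), (171,[g5,g0,g6]), (206,[g5,g1,g3]),
  (14,[g5,g1,g4]), (24,[g5,g1,g6]), (164,[g5,g2,g3]), (153,[g6,g1,g5]), (115,[g6,g2,g5]),
  (160,[g6,g5,g1]), (174,[g6,g5,g2]), (96,[g1,g3,g0,g1]), (97,[g1,g3,g0,g2]), (110,[g1,g3,g1,g2]),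
  (220,[g1,g3,g5,g1]), (185,[g1,g3,g5,g2]), (117,[g1,g3,g6,g5]), (8,[g1,g4,g1,g5]),
  (65,[g1,g4,g2,g6]), (28,[g1,g4,g5,g1]), (118,[g1,g4,g5,g2]), (205,[g1,g5,g1,g3]),
  (15,[g1,g5,g1,g4]), (245,[g1,g5,g1,g6]), (88,[g1,g5,g2,g3]), (44,[g1,g5,g6,g1]),
  (36,[g1,g5,g6,g2]), (165,[g1,g6,g5,g0]), (219,[g3,g0,g1,g5]), (67,[g3,g0,g1,g6]),
  (95,[g3,g1,g4,g5]), (190,[g3,g2,g5,g0]), (60,[g4,g2,g3,g2])]

def t0 : PtData where
  r := 4
  T := T0
  S := [s0_0, s0_1]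
  L := L0
  W := W0
  C := [([g2,g3,g4,g6], [g3,g4,g6,g2])]

theorem check0 : PtCheck (confK3.X ++ confK3.N ++ confK3.M) (confK3.X ++ confK3.N) t0 := by
  constructor <;> decide +kernel

theorem cover : ∀ n ∈ List.range 256, n ≠ 0 → qs (vec n) = 0 → n ∈ orb ∨ n ∈ t0.W.map (fun w => w.1) := by
  decide +kernel

/-- every conjugate of `z` in `Q` lies over a point of `orb` -/
theorem pts [Finite G] (p : Pair Q z A a) (φ : Coord p.lz) (hc : IsConf p φ confK3) (x : Q)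
    (hx : IsConj z (x : G)) (hx0 : p.lz.pr x ≠ 0) : ∃ n ∈ orb, φ.e (p.lz.pr x) = vec n := by
  obtain ⟨n, hn, hnv⟩ := exists_code (φ.e (p.lz.pr x))
  obtain ⟨A', p', hp'⟩ := pair_of_isConj p x hx hx0
  have hq0 : qs (vec n) = 0 := by rw [← hnv, ← φ.q]; exact hp' ▸ p'.q_D p'.va_mem_D
  have hn0 : n ≠ 0 := by
    rintro rfl
    rw [vec_zero] at hnv
    exact hx0 (φ.e.map_eq_zero_iff.1 hnv)
  rcases cover n (List.mem_range.2 hn) hn0 hq0 with h1 | h1
  · exact ⟨n, h1, hnv⟩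
  · exfalso
    obtain ⟨w, hw, rfl⟩ := List.mem_map.1 h1
    exact no_pair p φ hc check0 p' ⟨w, hw, by rw [hp', hnv]⟩

end Cfsg.Agent.LargeExtra.KillNine.PtsK3
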