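import Cfsg.Agent.LargeExtra.KillNine.Pts
import Cfsg.Agent.LargeExtra.KillNine.PtsK3
set_option linter.all false

-- part: LargeExtra/KillNine/Kills
section
/-!
# The kills k2, k3, k4, k5 of S1763 (helper441)

Each theorem kills the configuration `confKi` of `Nine.Iface`, given that the conjugates of `z` in `Q` lie over the
points of the list `orbKi` (the orbit of `ã` under the group generated by the printed matrices).
-/

set_option autoImplicit false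
set_option maxRecDepth 100000

namespace Cfsg.Agent.LargeExtra.KillNine.Kills

open Cfsg.Agent.Co2Type.Quad Cfsg.Agent.LargeExtra.Base Cfsg.Agent.LargeExtra.Nine
open Cfsg.Agent.LargeExtra.KillNine.Cert

variable {G : Type*} [Group G] {Q A : Subgroup G} {z a : G}

/-- generator 0 of `confK2` -/
def gK20 : List ℕ := [1,2,4,9,144,36,66,128]
/-- generator 1 of `confK2` -/
def gK21 : List ℕ := [1,2,5,8,80,40,64,130]
/-- generator 2 of `confK2` -/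
def gK22 : List ℕ := [1,3,4,8,48,32,72,132]
/-- generator 3 of `confK2` -/
def gK23 : List ℕ := [75,2,146,64,16,120,8,22]
/-- generator 4 of `confK2` -/
def gK24 : List ℕ := [45,148,4,32,16,8,120,22]
/-- generator 5 of `confK2` -/
def gK25 : List ℕ := [237,90,186,80,16,104,24,118]

/-- the points of `confK2` -/
def orbK2 : List ℕ :=
  [1, 6, 7, 8, 9, 10, 11, 12, 13, 16, 24, 32, 36, 40, 45, 48, 56, 64, 66, 72, 75, 80, 88, 96, 102,
    104, 111, 112, 120, 144, 153, 180, 189, 210, 219, 224, 225, 230, 231, 234, 235, 236, 237, 246,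
    255]

def dataK2 : Data where
  Y := [0, 1, 2, 3, 8, 9, 10, 11, 64, 65, 66, 67, 72, 73, 74, 75]
  w1 := [gK21]
  w2 := [gK23, gK21, gK23]
  P := [
    (1, [], [gK21], 0),
    (64, [gK23, gK20, gK22], [gK21], 1),
    (66, [gK23, gK22], [gK21], 2),
    (8, [gK23, gK20, gK22, gK23], [gK21], 0),
    (9, [gK23, gK20, gK22, gK23, gK20], [gK21], 0),
    (72, [gK23, gK20], [gK21], 2),
    (10, [gK23, gK22, gK23], [gK21], 2),
    (11, [gK23, gK22, gK23, gK20], [gK21], 1),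
    (75, [gK23], [gK21], 1)]

theorem checkK2 : Check confK2 orbK2 dataK2 := by
  constructor <;> decide +kernel

theorem killK2 [Finite G] (p : Pair Q z A a) (φ : Coord p.lz) (hc : IsConf p φ confK2)
    (hO : ∀ x : Q, IsConj z (x : G) → p.lz.pr x ≠ 0 → ∃ n ∈ orbK2, φ.e (p.lz.pr x) = vec n) : False :=
  kill_of_check p φ hc hO checkK2

/-- generator 0 of `confK3` -/
def gK30 : List ℕ := [1,2,4,9,144,36,66,128]
/-- generator 1 of `confK3` -/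
def gK31 : List ℕ := [1,2,5,8,80,40,64,130]
/-- generator 2 of `confK3` -/
def gK32 : List ℕ := [1,3,4,8,51,33,72,132]
/-- generator 3 of `confK3` -/
def gK33 : List ℕ := [123,144,20,36,16,28,194,18]
/-- generator 4 of `confK3` -/
def gK34 : List ℕ := [235,144,150,118,16,220,194,18]
/-- generator 5 of `confK3` -/
def gK35 : List ℕ := [225,210,56,52,16,32,128,64]
/-- generator 6 of `confK3` -/
def gK36 : List ℕ := [7,128,134,96,16,88,80,2]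

/-- the points of `confK3` -/
def orbK3 : List ℕ :=
  [1, 2, 3, 6, 7, 10, 11, 12, 13, 16, 18, 48, 51, 64, 66, 72, 75, 80, 82, 120, 123, 128, 130, 132,
    135, 144, 146, 180, 183, 192, 194, 204, 207, 208, 210, 224, 225, 230, 231, 234, 235, 236, 237,
    252, 255]

def dataK3 : Data where
  Y := [0, 1, 2, 3, 4, 5, 6, 7, 128, 129, 130, 131, 132, 133, 134, 135]
  w1 := [gK30]
  w2 := [gK36, gK30, gK36]
  P := [
    (1, [], [gK30], 0),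
    (128, [gK33, gK32, gK36, gK35], [gK31], 1),
    (132, [gK36, gK31, gK33], [gK30, gK31], 2),
    (2, [gK33, gK34, gK32], [gK30], 0),
    (3, [gK33, gK34], [gK30], 0),
    (130, [gK33, gK34, gK36, gK32], [gK30], 2),
    (6, [gK36, gK31], [gK30], 2),
    (7, [gK36], [gK30], 1),
    (135, [gK33, gK34, gK36], [gK30], 1)]

theorem checkK3 : Check confK3 orbK3 dataK3 := by
  constructor <;> decide +kernel

theorem killK3 [Finite G] (p : Pair Q z A a) (φ : Coord p.lz) (hc : IsConf p φ confK3)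
    (hO : ∀ x : Q, IsConj z (x : G) → p.lz.pr x ≠ 0 → ∃ n ∈ orbK3, φ.e (p.lz.pr x) = vec n) : False :=
  kill_of_check p φ hc hO checkK3

/-- generator 0 of `confK4` -/
def gK40 : List ℕ := [1,2,4,9,144,36,66,128]
/-- generator 1 of `confK4` -/
def gK41 : List ℕ := [1,2,5,8,80,40,64,130]
/-- generator 2 of `confK4` -/
def gK42 : List ℕ := [1,3,4,8,48,32,72,132]
/-- generator 3 of `confK4` -/
def gK43 : List ℕ := [3,2,132,74,16,176,64,128]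
/-- generator 4 of `confK4` -/
def gK44 : List ℕ := [115,146,20,44,16,48,192,128]
/-- generator 5 of `confK4` -/
def gK45 : List ℕ := [75,64,48,8,16,20,2,144]

/-- the points of `confK4` -/
def orbK4 : List ℕ :=
  [1, 2, 3, 4, 5, 6, 7, 10, 11, 12, 13, 14, 15, 16, 18, 20, 24, 26, 28, 32, 36, 40, 45, 48, 51, 52,
    56, 59, 60, 64, 66, 72, 75, 80, 82, 85, 88, 90, 93, 97, 103, 105, 110, 112, 115, 117, 120, 123,
    125, 128, 129, 130, 131, 132, 133, 134, 135, 144, 146, 148, 153, 155, 157, 160, 161, 164, 165,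
    170, 171, 174, 175, 176, 180, 183, 185, 189, 190, 192, 193, 194, 195, 204, 205, 206, 207, 208,
    210, 215, 217, 219, 222, 224, 225, 230, 231, 234, 235, 236, 237, 243, 245, 246, 250, 252, 255]

def dataK4 : Data where
  Y := [0, 1, 2, 3, 8, 9, 10, 11, 64, 65, 66, 67, 72, 73, 74, 75]
  w1 := [gK41]
  w2 := [gK45, gK41, gK45]
  P := [
    (1, [], [gK41], 0),
    (64, [gK43, gK42, gK45], [gK41], 1),
    (2, [gK43, gK42], [gK41], 0),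
    (3, [gK43], [gK41], 0),
    (66, [gK45, gK42], [gK41], 2),
    (72, [gK45, gK40], [gK41], 2),
    (10, [gK43, gK45, gK40], [gK41], 2),
    (11, [gK43, gK45], [gK41], 1),
    (75, [gK45], [gK41], 1)]

theorem checkK4 : Check confK4 orbK4 dataK4 := by
  constructor <;> decide +kernel

theorem killK4 [Finite G] (p : Pair Q z A a) (φ : Coord p.lz) (hc : IsConf p φ confK4)
    (hO : ∀ x : Q, IsConj z (x : G) → p.lz.pr x ≠ 0 → ∃ n ∈ orbK4, φ.e (p.lz.pr x) = vec n) : False :=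
  kill_of_check p φ hc hO checkK4

/-- generator 0 of `confK5` -/
def gK50 : List ℕ := [1,2,4,9,144,36,66,128]
/-- generator 1 of `confK5` -/
def gK51 : List ℕ := [1,2,5,8,80,40,64,130]
/-- generator 2 of `confK5` -/
def gK52 : List ℕ := [1,3,4,8,48,32,72,132]
/-- generator 3 of `confK5` -/
def gK53 : List ℕ := [3,2,132,72,16,48,64,128]
/-- generator 4 of `confK5` -/
def gK54 : List ℕ := [5,130,4,40,16,32,80,128]
/-- generator 5 of `confK5` -/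
def gK55 : List ℕ := [41,82,36,8,16,32,64,144]

/-- the points of `confK5` -/
def orbK5 : List ℕ :=
  [1, 2, 3, 4, 5, 8, 9, 12, 13, 16, 18, 32, 33, 36, 37, 40, 41, 44, 45, 48, 51, 64, 66, 72, 75, 80,
    82, 120, 123, 128, 130, 132, 135, 144, 146, 180, 183, 192, 194, 204, 207, 208, 210, 252, 255]

def dataK5 : Data where
  Y := [0, 1, 2, 3, 12, 13, 14, 15, 192, 193, 194, 195, 204, 205, 206, 207]
  w1 := [gK50, gK51]
  w2 := [gK54, gK55, gK50, gK51, gK54, gK55]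
  P := [
    (1, [], [gK50, gK51], 0),
    (194, [gK53, gK52, gK54, gK55], [gK50, gK51], 1),
    (192, [gK53, gK52, gK54, gK55, gK50], [gK50, gK51], 2),
    (2, [gK53, gK52], [gK50, gK51], 0),
    (3, [gK53], [gK50, gK51], 0),
    (12, [gK54, gK55, gK50], [gK50, gK51], 2),
    (13, [gK54, gK55], [gK50, gK51], 1),
    (207, [gK53, gK54, gK55], [gK50, gK51], 1),
    (204, [gK53, gK54, gK55, gK50], [gK50, gK51], 2)]

theorem checkK5 : Check confK5 orbK5 dataK5 := by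
  constructor <;> decide +kernel

theorem killK5 [Finite G] (p : Pair Q z A a) (φ : Coord p.lz) (hc : IsConf p φ confK5)
    (hO : ∀ x : Q, IsConj z (x : G) → p.lz.pr x ≠ 0 → ∃ n ∈ orbK5, φ.e (p.lz.pr x) = vec n) : False :=
  kill_of_check p φ hc hO checkK5

end Cfsg.Agent.LargeExtra.KillNine.Kills
end

-- part: LargeExtra/KillNine/PtsK2
section
/-!
# The conjugates of `z` in `Q` for `confK2` (helper441, generated)
-/

set_option autoImplicit false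
set_option maxRecDepth 1000000

namespace Cfsg.Agent.LargeExtra.KillNine.PtsK2

open Cfsg.Agent.Co2Type.Quad Cfsg.Agent.LargeExtra.Base Cfsg.Agent.LargeExtra.Nine
open Cfsg.Agent.LargeExtra.KillNine.Pts Cfsg.Agent.LargeExtra.KillNine.Codes

variable {G : Type*} [Group G] {Q A : Subgroup G} {z a : G}

def g0 : List ℕ := [1,2,4,9,144,36,66,128]
def g1 : List ℕ := [1,2,5,8,80,40,64,130]
def g2 : List ℕ := [1,3,4,8,48,32,72,132]
def g3 : List ℕ := [75,2,146,64,16,120,8,22]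
def g4 : List ℕ := [45,148,4,32,16,8,120,22]
def g5 : List ℕ := [237,90,186,80,16,104,24,118]
def g6 : List ℕ := [1,4,2,9,144,66,36,128]

/-- the points of `confK2` -/
def orb : List ℕ := [
    1, 6, 7, 8, 9, 10, 11, 12, 13, 16, 24, 32, 36, 40, 45, 48, 56, 64, 66, 72, 75, 80, 88, 96, 102,
    104, 111, 112, 120, 144, 153, 180, 189, 210, 219, 224, 225, 230, 231, 234, 235, 236, 237, 246,
    255]

def s0_0 : List ℕ := [75,2,155,11,6,235,10,30]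
def s0_1 : List ℕ := [75,2,208,64,80,48,8,87]

def T0 : List (ℕ × List ℕ × List ℕ) := [
  (2,idL,idL), (3,[1,3,4,8,48,32,72,132],[1,3,4,8,48,32,72,132]),
  (148,[45,148,4,32,16,8,120,22],[45,148,4,32,16,8,120,22]),
  (90,[237,90,186,80,16,104,24,118],[237,90,186,80,16,104,24,118]),
  (4,[1,4,2,9,144,66,36,128],[1,4,2,9,144,66,36,128]),
  (73,[75,73,146,64,104,120,72,132],[66,3,183,72,48,80,8,55]),
  (185,[45,185,4,32,24,8,88,18],[45,176,4,32,48,8,80,55]),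
  (183,[237,183,186,80,120,104,72,204],[225,115,159,120,48,96,56,95]),
  (5,[1,5,2,9,210,66,45,130],[1,4,3,9,180,75,36,132]),
  (20,[40,20,4,36,144,9,255,150],[45,148,4,13,6,12,236,22]),
  (215,[36,215,5,40,80,8,48,87],[45,148,41,32,104,40,120,130]),
  (176,[45,176,4,32,48,8,80,55],[45,185,4,32,24,8,88,18]),
  (220,[111,220,186,104,16,80,48,240],[111,220,186,104,16,80,48,240]),
  (18,[72,18,2,66,144,9,255,150],[45,4,148,13,6,236,12,22]),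
  (217,[234,217,63,210,144,111,153,240],[237,90,186,189,102,210,66,118]),
  (26,[230,26,240,16,80,96,88,63],[237,90,87,80,8,56,24,44]),
  (115,[225,115,159,120,48,96,56,95],[237,183,186,80,120,104,72,204]),
  (146,[75,146,2,11,6,10,234,22],[40,4,20,36,144,255,9,150]),
  (186,[237,186,90,189,102,66,210,118],[236,185,95,180,144,111,153,240]),
  (74,[72,74,18,66,111,255,75,132],[66,3,183,10,7,231,11,55]),
  (65,[66,65,183,72,96,80,64,128],[66,65,183,72,96,80,64,128]),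
  (117,[225,117,146,120,80,64,88,18],[237,176,183,80,48,72,32,132]),
  (165,[255,165,60,24,32,48,72,204],[210,115,28,56,48,16,120,220]),
  (44,[40,44,20,36,111,255,45,130],[66,183,3,10,7,11,231,55]),
  (60,[40,60,4,36,153,9,219,146],[45,176,4,13,7,12,224,55]),
  (243,[36,243,5,40,88,8,24,82],[45,176,41,32,96,40,80,135]),
  (157,[45,157,4,32,56,8,112,51],[45,157,4,32,56,8,112,51]),
  (179,[111,179,186,104,64,80,88,74],[102,240,159,96,48,120,16,220]),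
  (51,[234,51,63,210,255,111,75,207],[225,115,159,153,111,255,75,95]),
  (252,[230,252,240,16,48,96,72,207],[225,115,126,120,8,24,56,44]),
  (85,[236,85,95,180,255,111,45,175],[225,159,115,153,111,75,255,95]),
  (41,[45,41,148,13,234,236,1,130],[64,51,3,75,180,9,210,179]),
  (87,[237,87,90,189,36,66,111,44],[224,157,118,144,180,102,189,220]),
  (52,[40,52,4,36,180,9,210,179],[45,185,4,13,10,12,225,18]),
  (130,[56,130,146,234,6,11,237,150],[88,148,132,236,6,235,13,150]),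
  (170,[56,170,186,210,102,189,75,134],[210,115,133,234,6,237,11,118]),
  (250,[36,250,5,40,120,8,16,126],[45,185,41,32,64,40,88,171]),
  (213,[234,213,217,56,24,64,104,195],[225,148,126,120,104,24,32,213]),
  (195,[12,195,41,40,104,32,24,213],[12,195,41,40,104,32,24,213]),
  (126,[225,126,146,120,104,64,24,179],[236,185,179,88,24,104,32,165]),
  (14,[1,14,4,8,24,32,104,165],[1,14,4,8,24,32,104,165]),
  (82,[72,82,2,66,210,9,180,213],[45,4,185,13,10,225,12,18]),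
  (95,[104,95,63,111,144,210,180,118],[111,220,186,7,224,234,236,240]),
  (159,[102,159,240,96,80,16,120,186],[111,220,213,104,32,56,48,44]),
  (240,[102,240,159,96,48,120,16,220],[111,179,186,104,64,80,88,74]),
  (63,[104,63,95,111,144,180,210,118],[111,186,220,7,224,236,234,240]),
  (132,[88,132,148,236,6,13,235,150],[88,132,148,236,6,13,235,150]),
  (155,[224,155,118,144,210,102,219,186],[237,90,87,189,36,111,66,44]),
  (245,[231,245,30,255,180,102,189,220],[237,183,186,189,180,210,255,204]),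
  (59,[235,59,220,48,120,104,112,30],[237,183,87,80,48,56,72,123]),
  (164,[246,164,118,16,104,112,72,133],[210,115,87,56,8,80,120,5]),
  (208,[75,208,2,11,7,10,224,87],[40,4,60,36,153,219,9,146]),
  (67,[64,67,51,75,102,210,66,128],[66,65,183,10,224,231,1,128]),
  (204,[88,204,132,236,237,235,225,18],[24,135,183,231,7,10,225,179]),
  (37,[32,37,85,45,102,180,36,128],[66,183,65,10,224,1,231,128]),
  (93,[237,93,183,80,120,72,112,51],[237,93,183,80,120,72,112,51]),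
  (55,[235,55,60,48,8,24,88,74],[230,240,28,16,48,56,96,95]),
  (161,[120,161,185,153,36,180,75,207],[210,115,28,234,236,12,11,220]),
  (174,[180,174,117,88,40,120,72,207],[210,115,206,56,72,40,120,175]),
  (193,[120,193,217,153,66,210,45,175],[210,28,115,234,236,11,12,220]),
  (28,[40,28,4,36,189,9,246,183],[45,157,4,13,11,12,237,51]),
  (222,[36,222,5,40,112,8,56,123],[45,157,41,32,72,40,112,174]),
  (207,[12,207,41,40,72,32,48,252],[12,206,41,40,96,32,56,249]),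
  (15,[1,15,4,8,56,32,96,161],[1,15,4,8,56,32,96,161]),
  (97,[111,97,186,104,40,80,96,207],[66,245,190,72,56,88,24,217]),
  (249,[102,249,240,96,64,16,24,74],[102,240,249,96,32,24,16,44]),
  (150,[102,150,159,96,72,120,112,67],[102,150,159,96,72,120,112,67]),
  (123,[224,123,118,144,180,102,75,204],[225,115,126,153,36,102,75,44]),
  (33,[36,33,243,12,237,235,1,133],[64,115,67,75,111,66,153,131]),
  (125,[224,125,118,144,210,102,45,170],[225,126,115,153,36,75,102,44]),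
  (22,[230,22,26,246,45,66,102,37],[224,157,150,144,9,246,189,65]),
  (194,[56,194,186,210,180,189,36,185],[219,95,160,235,10,224,7,90]),
  (128,[112,128,208,224,7,11,230,213],[88,148,220,236,11,7,13,2]),
  (135,[24,135,183,231,7,10,225,179],[88,204,132,236,237,235,225,18]),
  (175,[189,175,63,80,96,56,72,134],[210,115,133,56,112,104,120,118]),
  (160,[112,160,240,144,111,246,75,133],[210,115,87,234,13,7,11,5]),
  (206,[12,206,41,40,96,32,56,249],[12,207,41,40,72,32,48,252]),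
  (30,[96,30,118,102,210,144,255,63],[111,220,213,7,12,237,236,44]),
  (118,[96,118,30,102,180,255,144,95],[111,179,186,7,10,234,235,74]),
  (131,[48,131,243,235,6,12,236,240],[88,220,204,236,224,225,7,134]),
  (133,[80,133,245,237,6,10,234,240],[88,204,220,236,224,7,225,134]),
  (190,[236,190,95,180,255,111,246,159],[237,183,87,189,75,111,255,123]),
  (129,[6,129,128,102,36,144,153,4],[6,129,128,102,36,144,153,4]),
  (192,[112,192,240,144,111,246,45,131],[210,87,115,234,13,11,7,5]),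
  (171,[48,171,243,219,45,255,75,204],[210,115,206,234,231,230,11,175]),
  (205,[80,205,245,189,75,255,45,170],[210,206,115,234,231,11,230,175]),
  (103,[104,103,63,111,45,210,102,204],[66,245,190,10,225,230,237,217]),
  (105,[102,105,240,96,32,16,104,204],[66,245,252,72,32,16,24,44]),
  (134,[144,134,59,112,72,48,96,175],[210,206,133,56,72,104,40,73]),
  (110,[96,110,118,6,235,230,1,207],[64,115,123,11,13,235,234,41])]

def L0 : List (List ℕ × List (List ℕ)) := [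
  (idL,[]), ([75,2,155,11,6,235,10,30],[s0_0]), ([75,2,208,64,80,48,8,87],[s0_1]),
  ([72,2,90,66,153,189,9,148],[s0_0,s0_0]), ([72,2,18,10,12,237,11,222],[s0_1,s0_0]),
  ([1,2,14,9,210,102,66,194],[s0_0,s0_1]), ([1,2,15,8,88,96,64,193],[s0_1,s0_1]),
  ([1,2,4,9,144,36,66,128],[s0_1,s0_0,s0_0]), ([72,2,26,10,12,236,11,215],[s0_0,s0_0,s0_1]),
  ([75,2,146,11,13,234,10,93],[s0_0,s0_1,s0_1]), ([75,2,146,64,16,120,8,22],[s0_0,s0_1,s0_0]),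
  ([75,2,217,64,24,56,8,20],[s0_1,s0_1,s0_1]), ([75,2,217,11,7,225,10,95],[s0_1,s0_1,s0_0]),
  ([1,2,5,8,88,40,64,131],[s0_0,s0_0,s0_0]), ([72,2,82,66,144,180,9,157],[s0_1,s0_0,s0_1]),
  ([1,2,5,8,80,40,64,130],[s0_0,s0_1,s0_0,s0_1]),
  ([72,2,18,66,144,255,9,150],[s0_0,s0_0,s0_1,s0_1]),
  ([72,2,26,66,219,246,9,215],[s0_0,s0_1,s0_1,s0_0]),
  ([72,2,82,10,13,230,11,157],[s0_1,s0_1,s0_1,s0_0]),
  ([72,2,90,10,7,231,11,220],[s0_1,s0_0,s0_1,s0_1]),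
  ([1,2,15,9,144,111,66,192],[s0_0,s0_0,s0_1,s0_0]),
  ([1,2,4,9,153,36,66,129],[s0_1,s0_1,s0_0,s0_1]), ([1,2,5,9,219,45,66,131],[s0_0,s0_1,s0_1,s0_1]),
  ([72,2,26,10,6,236,11,159],[s0_0,s0_1,s0_0,s0_0]),
  ([72,2,82,66,210,180,9,213],[s0_1,s0_1,s0_0,s0_0]),
  ([1,2,14,8,24,104,64,195],[s0_1,s0_0,s0_1,s0_0]),
  ([75,2,208,11,7,224,10,87],[s0_0,s0_0,s0_0,s0_0]),
  ([75,2,155,64,24,112,8,30],[s0_0,s0_0,s0_0,s0_1]),
  ([1,2,5,9,210,45,66,130],[s0_1,s0_0,s0_1,s0_1,s0_0]),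
  ([72,2,90,66,219,189,9,220],[s0_1,s0_1,s0_1,s0_0,s0_1]),
  ([1,2,14,9,219,102,66,195],[s0_1,s0_1,s0_1,s0_0,s0_0]),
  ([1,2,15,9,153,111,66,193],[s0_0,s0_0,s0_0,s0_0,s0_1]),
  ([72,2,18,10,6,237,11,150],[s0_0,s0_1,s0_1,s0_0,s0_1]),
  ([72,2,82,10,7,230,11,213],[s0_0,s0_0,s0_1,s0_1,s0_1]),
  ([1,2,14,8,16,104,64,194],[s0_0,s0_0,s0_0,s0_1,s0_1]),
  ([75,2,155,64,88,112,8,85],[s0_0,s0_1,s0_0,s0_1,s0_1]),
  ([1,2,15,8,80,96,64,192],[s0_0,s0_1,s0_1,s0_0,s0_0]),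
  ([1,2,4,8,24,32,64,129],[s0_0,s0_0,s0_1,s0_1,s0_0]),
  ([72,2,18,66,210,255,9,222],[s0_0,s0_0,s0_0,s0_0,s0_0]),
  ([75,2,208,11,12,224,10,28],[s0_0,s0_1,s0_0,s0_1,s0_0]),
  ([72,2,90,10,13,231,11,148],[s0_0,s0_0,s0_0,s0_1,s0_0]),
  ([72,2,26,66,153,246,9,159],[s0_1,s0_0,s0_1,s0_1,s0_1]),
  ([75,2,146,11,6,234,10,22],[s0_0,s0_0,s0_0,s0_1,s0_1,s0_0]),
  ([75,2,146,64,80,120,8,93],[s0_0,s0_0,s0_0,s0_1,s0_1,s0_1]),
  ([75,2,217,64,88,56,8,95],[s0_0,s0_0,s0_0,s0_0,s0_1,s0_0]),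
  ([75,2,217,11,12,225,10,20],[s0_0,s0_0,s0_0,s0_0,s0_1,s0_1]),
  ([75,2,155,11,13,235,10,85],[s0_0,s0_0,s0_1,s0_1,s0_0,s0_0]),
  ([75,2,208,64,16,48,8,28],[s0_0,s0_0,s0_1,s0_1,s0_0,s0_1])]

def W0 : List (ℕ × List (List ℕ)) := [
  (2,[]), (3,[g2]), (148,[g4]), (90,[g5]), (73,[g2,g3]), (185,[g2,g4]), (183,[g2,g5]),
  (20,[g4,g0]), (215,[g4,g1]), (176,[g4,g2]), (220,[g4,g5]), (217,[g5,g0]), (26,[g5,g1]),
  (115,[g5,g2]), (74,[g2,g3,g0]), (65,[g2,g3,g2]), (117,[g2,g3,g4]), (165,[g2,g3,g5]),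
  (60,[g2,g4,g0]), (243,[g2,g4,g1]), (157,[g2,g4,g2]), (179,[g2,g4,g5]), (51,[g2,g5,g0]),
  (252,[g2,g5,g1]), (146,[g2,g5,g2]), (85,[g4,g0,g1]), (52,[g4,g0,g2]), (130,[g4,g0,g3]),
  (170,[g4,g0,g5]), (250,[g4,g1,g2]), (213,[g4,g1,g3]), (195,[g4,g1,g4]), (126,[g4,g2,g3]),
  (14,[g4,g2,g4]), (95,[g4,g5,g0]), (159,[g4,g5,g1]), (240,[g4,g5,g2]), (155,[g5,g0,g1]),
  (245,[g5,g0,g2]), (5,[g5,g0,g3]), (59,[g5,g1,g2]), (82,[g5,g1,g3]), (164,[g5,g1,g4]),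
  (41,[g5,g2,g3]), (67,[g2,g3,g0,g2]), (204,[g2,g3,g0,g4]), (18,[g2,g3,g0,g5]), (93,[g2,g3,g4,g2]),
  (55,[g2,g3,g4,g5]), (161,[g2,g3,g5,g0]), (174,[g2,g3,g5,g1]), (28,[g2,g4,g0,g2]),
  (186,[g2,g4,g0,g3]), (222,[g2,g4,g1,g2]), (63,[g2,g4,g1,g3]), (207,[g2,g4,g1,g4]),
  (15,[g2,g4,g2,g4]), (97,[g2,g4,g2,g5]), (249,[g2,g4,g5,g1]), (150,[g2,g4,g5,g2]),
  (123,[g2,g5,g0,g1]), (33,[g2,g5,g0,g3]), (208,[g2,g5,g1,g2]), (4,[g2,g5,g2,g3]),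
  (125,[g4,g0,g1,g2]), (193,[g4,g0,g1,g3]), (194,[g4,g0,g2,g5]), (128,[g4,g0,g3,g1]),
  (135,[g4,g0,g3,g2]), (44,[g4,g0,g3,g5]), (175,[g4,g0,g5,g0]), (160,[g4,g0,g5,g1]),
  (87,[g4,g1,g3,g0]), (206,[g4,g1,g4,g2]), (30,[g4,g5,g0,g1]), (118,[g4,g5,g0,g2]),
  (131,[g4,g5,g0,g3]), (22,[g4,g5,g2,g5]), (190,[g5,g0,g1,g2]), (129,[g5,g0,g1,g5]),
  (192,[g2,g3,g0,g4,g2]), (132,[g2,g3,g0,g4,g5]), (171,[g2,g3,g5,g0,g1]), (37,[g2,g3,g5,g0,g3]),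
  (133,[g2,g4,g1,g3,g4]), (103,[g2,g4,g2,g5,g0]), (105,[g2,g4,g2,g5,g1]), (134,[g2,g4,g5,g2,g5]),
  (205,[g4,g0,g1,g3,g2]), (110,[g4,g0,g5,g1,g3])]

def t0 : PtData where
  r := 2
  T := T0
  S := [s0_0, s0_1]
  L := L0
  W := W0
  C := [([g0,g3], [g3,g0])]

theorem check0 : PtCheck (confK2.X ++ confK2.N ++ confK2.M) (confK2.X ++ confK2.N) t0 := by
  constructor <;> decide +kernel

theorem cover : ∀ n ∈ List.range 256, n ≠ 0 → qs (vec n) = 0 → n ∈ orb ∨ n ∈ t0.W.map (fun w => w.1) := by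
  decide +kernel

/-- every conjugate of `z` in `Q` lies over a point of `orb` -/
theorem pts [Finite G] (p : Pair Q z A a) (φ : Coord p.lz) (hc : IsConf p φ confK2) (x : Q)
    (hx : IsConj z (x : G)) (hx0 : p.lz.pr x ≠ 0) : ∃ n ∈ orb, φ.e (p.lz.pr x) = vec n := by
  obtain ⟨n, hn, hnv⟩ := exists_code (φ.e (p.lz.pr x))
  obtain ⟨A', p', hp'⟩ := pair_of_isConj p x hx hx0
  have hq0 : qs (vec n) = 0 := by rw [← hnv, ← φ.q]; exact hp' ▸ p'.q_D p'.va_mem_D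
  have hn0 : n ≠ 0 := by
    rintro rfl
    rw [vec_zero] at hnv
    exact hx0 (φ.e.map_eq_zero_iff.1 hnv)
  rcases cover n (List.mem_range.2 hn) hn0 hq0 with h1 | h1
  · exact ⟨n, h1, hnv⟩
  · exfalso
    obtain ⟨w, hw, rfl⟩ := List.mem_map.1 h1
    exact no_pair p φ hc check0 p' ⟨w, hw, by rw [hp', hnv]⟩

end Cfsg.Agent.LargeExtra.KillNine.PtsK2
end

-- part: LargeExtra/KillNine/PtsK4
section
/-!
# The conjugates of `z` in `Q` for `confK4` (helper441, generated)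
-/

set_option autoImplicit false
set_option maxRecDepth 1000000

namespace Cfsg.Agent.LargeExtra.KillNine.PtsK4

open Cfsg.Agent.Co2Type.Quad Cfsg.Agent.LargeExtra.Base Cfsg.Agent.LargeExtra.Nine
open Cfsg.Agent.LargeExtra.KillNine.Pts Cfsg.Agent.LargeExtra.KillNine.Codes

variable {G : Type*} [Group G] {Q A : Subgroup G} {z a : G}

def g0 : List ℕ := [1,2,4,9,144,36,66,128]
def g1 : List ℕ := [1,2,5,8,80,40,64,130]
def g2 : List ℕ := [1,3,4,8,48,32,72,132]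
def g3 : List ℕ := [3,2,132,74,16,176,64,128]
def g4 : List ℕ := [115,146,20,44,16,48,192,128]
def g5 : List ℕ := [75,64,48,8,16,20,2,144]

/-- the points of `confK4` -/
def orb : List ℕ := [
    1, 2, 3, 4, 5, 6, 7, 10, 11, 12, 13, 14, 15, 16, 18, 20, 24, 26, 28, 32, 36, 40, 45, 48, 51,
    52, 56, 59, 60, 64, 66, 72, 75, 80, 82, 85, 88, 90, 93, 97, 103, 105, 110, 112, 115, 117, 120,
    123, 125, 128, 129, 130, 131, 132, 133, 134, 135, 144, 146, 148, 153, 155, 157, 160, 161, 164,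
    165, 170, 171, 174, 175, 176, 180, 183, 185, 189, 190, 192, 193, 194, 195, 204, 205, 206, 207,
    208, 210, 215, 217, 219, 222, 224, 225, 230, 231, 234, 235, 236, 237, 243, 245, 246, 250, 252,
    255]

def s0_0 : List ℕ := [45,117,112,8,115,59,18,134]
def s0_1 : List ℕ := [103,6,115,8,3,56,7,134]

def T0 : List (ℕ × List ℕ × List ℕ) := [
  (8,idL,idL), (9,[1,2,4,9,144,36,66,128],[1,2,4,9,144,36,66,128]),
  (74,[3,2,132,74,16,176,64,128],[3,2,132,74,16,176,64,128]),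
  (44,[115,146,20,44,16,48,192,128],[115,146,20,44,16,48,192,128]),
  (73,[3,2,132,73,144,52,66,128],[3,2,132,73,144,52,66,128]),
  (95,[115,146,20,95,144,36,82,128],[245,18,148,41,144,180,194,128]),
  (67,[75,64,48,67,128,36,66,144],[72,66,180,9,144,148,2,16]),
  (126,[225,146,148,126,16,160,192,128],[225,146,148,126,16,160,192,128]),
  (41,[245,18,148,41,144,180,194,128],[115,146,20,95,144,36,82,128]),
  (37,[59,208,85,37,80,120,194,130],[115,146,103,44,208,28,192,18]),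
  (65,[2,3,128,65,180,20,75,132],[3,1,132,73,164,52,11,4]),
  (159,[225,146,148,159,144,52,82,128],[231,18,20,249,144,164,194,128]),
  (220,[245,18,148,220,16,32,208,128],[245,18,148,220,16,32,208,128]),
  (30,[59,208,85,30,210,45,18,130],[245,18,97,41,82,157,194,146]),
  (118,[90,183,52,118,180,36,123,132],[245,231,148,41,36,180,235,20]),
  (33,[13,192,32,33,128,36,82,144],[12,194,36,41,144,4,18,16]),
  (249,[231,18,20,249,144,164,194,128],[225,146,148,159,144,52,82,128]),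
  (55,[235,208,215,55,80,170,194,130],[225,146,117,126,208,222,192,18]),
  (87,[237,183,176,87,48,164,204,132],[225,115,148,126,176,160,190,20]),
  (111,[7,130,132,111,144,180,210,128],[7,130,132,111,144,180,210,128]),
  (179,[146,225,128,179,180,4,13,148],[153,161,32,249,164,144,15,4]),
  (186,[237,183,176,186,180,20,123,132],[231,245,20,249,52,164,59,148]),
  (240,[217,51,176,240,48,32,252,132],[245,231,148,220,48,32,12,20]),
  (104,[7,130,132,104,16,48,80,128],[7,130,132,104,16,48,80,128]),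
  (63,[26,252,125,63,255,45,51,135],[245,231,97,41,207,157,235,243]),
  (102,[24,165,36,102,164,52,171,4],[18,231,128,37,36,132,235,20]),
  (213,[234,51,52,213,180,160,207,132],[225,115,148,159,164,52,205,20]),
  (22,[230,252,250,22,120,175,207,135],[225,115,117,126,14,222,190,103]),
  (150,[183,237,132,150,144,4,13,176],[153,56,32,249,52,144,246,36]),
  (96,[153,161,32,96,160,176,174,4],[18,231,128,55,48,4,12,20])]

def L0 : List (List ℕ × List (List ℕ)) := [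
  (idL,[]), ([45,117,112,8,115,59,18,134],[s0_0]), ([103,6,115,8,3,56,7,134],[s0_1]),
  ([45,117,93,8,97,51,18,243],[s0_1,s0_1]), ([110,7,90,8,2,24,6,131],[s0_0,s0_0]),
  ([1,5,2,8,88,64,40,131],[s0_1,s0_0]), ([36,40,60,8,93,82,5,243],[s0_0,s0_1]),
  ([36,40,24,8,88,90,5,219],[s0_1,s0_1,s0_1]), ([110,7,52,8,4,16,6,132],[s0_1,s0_1,s0_0]),
  ([66,18,10,8,6,11,117,231],[s0_0,s0_0,s0_1]), ([75,51,48,8,52,20,93,132],[s0_0,s0_1,s0_0]),
  ([103,20,6,8,12,7,48,231],[s0_1,s0_0,s0_1]), ([36,40,28,8,117,123,5,222],[s0_0,s0_0,s0_0]),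
  ([45,93,117,8,105,18,51,222],[s0_1,s0_0,s0_0]), ([75,48,64,8,24,2,20,219],[s0_0,s0_1,s0_1]),
  ([75,48,120,8,40,85,20,255],[s0_0,s0_0,s0_0,s0_1]),
  ([36,24,40,8,80,5,90,255],[s0_1,s0_0,s0_0,s0_1]),
  ([1,3,5,8,120,40,72,135],[s0_1,s0_0,s0_1,s0_0]),
  ([1,5,14,8,117,105,40,171],[s0_0,s0_0,s0_1,s0_1]),
  ([45,112,117,8,123,18,59,171],[s0_1,s0_0,s0_1,s0_1]),
  ([66,72,18,8,123,117,3,183],[s0_0,s0_1,s0_1,s0_0]),
  ([110,52,7,8,12,6,16,234],[s0_1,s0_0,s0_0,s0_0]),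
  ([36,40,56,8,112,115,5,246],[s0_1,s0_1,s0_0,s0_0]),
  ([110,90,59,8,72,112,24,245],[s0_0,s0_1,s0_0,s0_1]),
  ([66,16,72,8,56,3,52,246],[s0_0,s0_1,s0_0,s0_0]),
  ([110,59,7,8,11,6,112,235],[s0_0,s0_1,s0_1,s0_1]),
  ([103,6,125,8,5,80,7,135],[s0_0,s0_0,s0_1,s0_0]),
  ([66,18,72,8,115,3,117,245],[s0_1,s0_1,s0_0,s0_1]),
  ([75,48,11,8,12,10,20,235],[s0_1,s0_1,s0_1,s0_1]),
  ([75,51,123,8,105,28,93,183],[s0_1,s0_1,s0_1,s0_0]),
  ([75,51,11,8,7,10,93,234],[s0_0,s0_0,s0_0,s0_0]),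
  ([75,11,48,8,4,20,10,160],[s0_1,s0_0,s0_0,s0_1,s0_1]),
  ([103,26,6,8,10,7,88,230],[s0_0,s0_1,s0_1,s0_0,s0_0]),
  ([75,48,51,8,60,93,20,207],[s0_1,s0_1,s0_0,s0_0,s0_1]),
  ([110,90,105,8,18,14,24,183],[s0_0,s0_0,s0_0,s0_0,s0_1]),
  ([1,5,15,8,93,97,40,174],[s0_0,s0_0,s0_1,s0_0,s0_0]),
  ([66,82,18,8,105,117,60,208],[s0_0,s0_1,s0_1,s0_1,s0_1]),
  ([45,88,93,8,82,51,26,174],[s0_1,s0_0,s0_1,s0_0,s0_0]),
  ([66,16,80,8,40,125,52,210],[s0_0,s0_0,s0_0,s0_0,s0_0]),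
  ([66,72,80,8,120,125,3,255],[s0_1,s0_1,s0_1,s0_1,s0_0]),
  ([110,59,105,8,123,14,112,208],[s0_1,s0_1,s0_1,s0_1,s0_1]),
  ([36,28,24,8,26,90,123,129],[s0_0,s0_1,s0_0,s0_1,s0_0]),
  ([66,72,82,8,51,60,3,252],[s0_0,s0_0,s0_0,s0_1,s0_0]),
  ([103,97,20,8,52,48,15,148],[s0_1,s0_0,s0_1,s0_0,s0_1]),
  ([36,56,40,8,120,5,115,210],[s0_1,s0_0,s0_0,s0_0,s0_0]),
  ([36,60,40,8,85,5,82,215],[s0_1,s0_0,s0_1,s0_1,s0_1]),
  ([103,115,26,8,64,88,56,217],[s0_0,s0_1,s0_0,s0_0,s0_0]),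
  ([110,90,85,8,80,120,24,175],[s0_1,s0_1,s0_1,s0_0,s0_1]),
  ([75,123,51,8,97,93,28,252],[s0_1,s0_0,s0_0,s0_1,s0_0]),
  ([103,6,26,8,2,88,7,129],[s0_1,s0_1,s0_0,s0_1,s0_0]),
  ([66,16,10,8,12,11,52,230],[s0_1,s0_1,s0_1,s0_0,s0_0]),
  ([110,90,7,8,10,6,24,237],[s0_1,s0_0,s0_1,s0_1,s0_0]),
  ([45,117,32,8,20,4,18,148],[s0_0,s0_0,s0_1,s0_0,s0_1]),
  ([110,59,52,8,48,16,112,160],[s0_0,s0_0,s0_0,s0_1,s0_1]),
  ([45,93,13,8,7,12,51,237],[s0_0,s0_0,s0_1,s0_1,s0_0]),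
  ([66,10,82,8,15,60,11,174],[s0_0,s0_1,s0_0,s0_1,s0_1]),
  ([1,15,5,8,85,40,97,175],[s0_0,s0_1,s0_1,s0_0,s0_1]),
  ([1,3,15,8,51,97,72,207],[s0_0,s0_1,s0_0,s0_0,s0_1]),
  ([103,20,125,8,40,80,48,215],[s0_0,s0_0,s0_1,s0_1,s0_1]),
  ([75,51,64,8,90,2,93,217],[s0_1,s0_1,s0_0,s0_0,s0_0]),
  ([103,115,97,8,51,15,56,146],[s0_0,s0_0,s0_0,s0_0,s0_0,s0_0]),
  ([45,93,32,8,52,4,51,176],[s0_0,s0_0,s0_1,s0_0,s0_0,s0_0]),
  ([36,28,40,8,125,5,123,250],[s0_1,s0_0,s0_1,s0_1,s0_0,s0_0]),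
  ([103,97,26,8,90,88,15,155],[s0_0,s0_1,s0_0,s0_0,s0_1,s0_1]),
  ([36,12,24,8,2,90,13,195],[s0_1,s0_0,s0_1,s0_0,s0_0,s0_1]),
  ([1,3,4,8,48,32,72,132],[s0_0,s0_0,s0_0,s0_0,s0_0,s0_1]),
  ([36,28,60,8,97,82,123,157],[s0_1,s0_1,s0_1,s0_0,s0_1,s0_0]),
  ([103,115,125,8,120,80,56,170],[s0_1,s0_1,s0_1,s0_0,s0_0,s0_0]),
  ([103,20,26,8,24,88,48,195],[s0_0,s0_0,s0_1,s0_0,s0_0,s0_1]),
  ([66,16,18,8,28,117,52,194],[s0_1,s0_1,s0_0,s0_0,s0_0,s0_0]),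
  ([1,15,2,8,90,64,97,193],[s0_0,s0_0,s0_0,s0_1,s0_0,s0_1]),
  ([75,11,123,8,14,28,10,171],[s0_0,s0_1,s0_0,s0_1,s0_0,s0_0]),
  ([45,88,32,8,16,4,26,180],[s0_0,s0_1,s0_0,s0_0,s0_1,s0_0]),
  ([110,105,52,8,20,16,14,176],[s0_1,s0_0,s0_1,s0_0,s0_0,s0_0]),
  ([66,10,80,8,5,125,11,175],[s0_0,s0_0,s0_0,s0_0,s0_1,s0_1]),
  ([66,10,18,8,14,117,11,165],[s0_1,s0_0,s0_1,s0_1,s0_0,s0_1]),
  ([66,80,72,8,112,3,125,189],[s0_1,s0_0,s0_0,s0_1,s0_1,s0_0]),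
  ([110,52,85,8,40,120,16,250],[s0_0,s0_0,s0_1,s0_1,s0_0,s0_0]),
  ([36,24,28,8,18,123,90,165],[s0_0,s0_0,s0_1,s0_1,s0_0,s0_1]),
  ([66,10,16,8,4,52,11,164],[s0_1,s0_0,s0_0,s0_1,s0_0,s0_0]),
  ([75,120,11,8,13,10,85,225],[s0_0,s0_1,s0_0,s0_1,s0_0,s0_1]),
  ([103,26,97,8,82,15,88,252],[s0_1,s0_1,s0_1,s0_1,s0_0,s0_0]),
  ([110,7,59,8,3,112,6,133],[s0_0,s0_0,s0_1,s0_0,s0_1,s0_0]),
  ([75,64,51,8,82,93,2,146],[s0_1,s0_0,s0_0,s0_0,s0_0,s0_0]),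
  ([103,26,20,8,16,48,88,164],[s0_0,s0_0,s0_0,s0_1,s0_0,s0_0]),
  ([110,85,90,8,88,24,120,193],[s0_1,s0_0,s0_0,s0_1,s0_0,s0_1]),
  ([36,24,12,8,10,13,90,231],[s0_1,s0_1,s0_1,s0_1,s0_1,s0_0]),
  ([45,112,32,8,48,4,59,144],[s0_0,s0_0,s0_1,s0_1,s0_1,s0_1]),
  ([36,24,56,8,72,115,90,189],[s0_0,s0_0,s0_0,s0_1,s0_1,s0_0]),
  ([110,59,90,8,64,24,112,155],[s0_1,s0_1,s0_0,s0_0,s0_1,s0_1]),
  ([1,2,14,8,18,105,64,194],[s0_0,s0_1,s0_0,s0_0,s0_0,s0_0]),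
  ([36,28,12,8,6,13,123,230],[s0_0,s0_0,s0_0,s0_0,s0_1,s0_0]),
  ([45,117,13,8,6,12,18,225],[s0_1,s0_1,s0_0,s0_1,s0_0,s0_1]),
  ([45,88,112,8,72,59,26,246],[s0_1,s0_0,s0_1,s0_0,s0_1,s0_1]),
  ([45,32,93,8,60,51,4,157],[s0_0,s0_1,s0_1,s0_0,s0_1,s0_0]),
  ([1,2,5,8,80,40,64,130],[s0_0,s0_1,s0_1,s0_1,s0_1,s0_1]),
  ([1,3,14,8,123,105,72,204],[s0_1,s0_1,s0_1,s0_0,s0_0,s0_1]),
  ([66,82,80,8,85,125,60,130],[s0_1,s0_1,s0_1,s0_1,s0_1,s0_1]),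
  ([1,4,3,8,56,72,32,133],[s0_1,s0_0,s0_1,s0_0,s0_1,s0_0]),
  ([66,72,16,8,48,52,3,180],[s0_1,s0_1,s0_0,s0_0,s0_1,s0_0]),
  ([103,125,20,8,32,48,80,176],[s0_0,s0_1,s0_0,s0_1,s0_1,s0_0]),
  ([1,14,5,8,125,40,105,170],[s0_0,s0_1,s0_1,s0_0,s0_0,s0_0]),
  ([1,15,4,8,52,32,97,160],[s0_1,s0_1,s0_1,s0_1,s0_0,s0_1]),
  ([75,64,48,8,16,20,2,144],[s0_1,s0_0,s0_1,s0_1,s0_1,s0_1]),
  ([45,13,117,8,14,18,12,204],[s0_0,s0_1,s0_1,s0_0,s0_0,s0_1]),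
  ([66,82,72,8,59,3,60,190],[s0_0,s0_0,s0_0,s0_1,s0_1,s0_1]),
  ([110,105,59,8,115,112,14,190],[s0_1,s0_0,s0_0,s0_1,s0_1,s0_1]),
  ([1,14,2,8,26,64,105,195],[s0_0,s0_1,s0_0,s0_1,s0_1,s0_1]),
  ([66,82,10,8,7,11,60,236],[s0_1,s0_1,s0_0,s0_0,s0_1,s0_1,s0_1]),
  ([45,13,112,8,3,59,12,205],[s0_0,s0_0,s0_0,s0_1,s0_0,s0_0,s0_1]),
  ([75,123,11,8,6,10,28,224],[s0_0,s0_0,s0_1,s0_1,s0_0,s0_1,s0_0]),
  ([75,11,120,8,5,85,10,170],[s0_0,s0_0,s0_0,s0_0,s0_1,s0_0,s0_0]),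
  ([45,112,13,8,11,12,59,224],[s0_0,s0_0,s0_1,s0_0,s0_0,s0_1,s0_1]),
  ([66,18,16,8,20,52,117,128],[s0_1,s0_0,s0_0,s0_0,s0_0,s0_0,s0_0]),
  ([66,80,10,8,13,11,125,237],[s0_0,s0_1,s0_0,s0_1,s0_0,s0_0,s0_0]),
  ([110,52,59,8,56,112,16,206],[s0_0,s0_0,s0_1,s0_0,s0_0,s0_0,s0_0]),
  ([1,2,15,8,82,97,64,192],[s0_0,s0_0,s0_0,s0_1,s0_1,s0_1,s0_1]),
  ([110,7,85,8,5,120,6,130],[s0_1,s0_1,s0_0,s0_1,s0_0,s0_1,s0_0]),
  ([103,6,20,8,4,48,7,128],[s0_0,s0_1,s0_1,s0_1,s0_1,s0_1,s0_1]),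
  ([110,105,90,8,26,24,14,217],[s0_1,s0_0,s0_1,s0_0,s0_1,s0_1,s0_0]),
  ([1,15,3,8,59,72,97,206],[s0_0,s0_1,s0_0,s0_1,s0_1,s0_0,s0_0]),
  ([45,32,117,8,28,18,4,185],[s0_0,s0_0,s0_0,s0_1,s0_0,s0_1,s0_0]),
  ([75,123,120,8,125,85,28,135],[s0_1,s0_1,s0_1,s0_1,s0_1,s0_0,s0_0]),
  ([45,93,88,8,90,26,51,131],[s0_0,s0_0,s0_0,s0_0,s0_0,s0_0,s0_1]),
  ([103,97,125,8,85,80,15,250],[s0_1,s0_1,s0_1,s0_0,s0_0,s0_1,s0_1]),
  ([103,125,97,8,93,15,80,157],[s0_0,s0_0,s0_0,s0_0,s0_1,s0_1,s0_0]),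
  ([75,11,51,8,15,93,10,161],[s0_0,s0_0,s0_0,s0_1,s0_1,s0_0,s0_1]),
  ([75,120,123,8,117,28,85,204],[s0_0,s0_0,s0_0,s0_0,s0_1,s0_0,s0_1]),
  ([45,13,93,8,15,51,12,192],[s0_0,s0_1,s0_1,s0_0,s0_0,s0_0,s0_0]),
  ([103,97,115,8,59,56,15,245],[s0_0,s0_0,s0_0,s0_0,s0_0,s0_1,s0_1]),
  ([66,18,82,8,97,60,117,146],[s0_0,s0_0,s0_1,s0_0,s0_1,s0_0,s0_1]),
  ([75,120,64,8,88,2,85,153],[s0_1,s0_1,s0_1,s0_0,s0_1,s0_0,s0_1]),
  ([36,56,24,8,64,90,115,153],[s0_0,s0_1,s0_1,s0_0,s0_1,s0_0,s0_1]),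
  ([1,4,14,8,28,105,32,165],[s0_0,s0_1,s0_0,s0_0,s0_1,s0_1,s0_0]),
  ([103,125,115,8,112,56,80,205],[s0_1,s0_0,s0_0,s0_1,s0_0,s0_0,s0_0]),
  ([1,14,4,8,20,32,105,164],[s0_0,s0_0,s0_0,s0_0,s0_1,s0_1,s0_1]),
  ([36,60,28,8,105,123,82,185],[s0_1,s0_0,s0_0,s0_1,s0_0,s0_1,s0_0]),
  ([45,32,112,8,56,59,4,189],[s0_0,s0_1,s0_0,s0_1,s0_1,s0_0,s0_1]),
  ([45,88,13,8,10,12,26,236],[s0_0,s0_1,s0_0,s0_0,s0_1,s0_1,s0_1]),
  ([36,56,60,8,51,82,115,161],[s0_0,s0_0,s0_1,s0_1,s0_0,s0_0,s0_0]),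
  ([103,20,97,8,60,15,48,243],[s0_1,s0_1,s0_1,s0_1,s0_1,s0_1,s0_0]),
  ([36,12,56,8,3,115,13,206],[s0_0,s0_1,s0_0,s0_0,s0_1,s0_0,s0_1]),
  ([36,12,60,8,15,82,13,207],[s0_1,s0_0,s0_1,s0_0,s0_1,s0_1,s0_1]),
  ([45,112,88,8,64,26,59,219],[s0_1,s0_0,s0_1,s0_0,s0_1,s0_0,s0_0]),
  ([75,120,48,8,32,20,85,180],[s0_1,s0_0,s0_1,s0_1,s0_0,s0_0,s0_1]),
  ([1,4,15,8,60,97,32,161],[s0_1,s0_0,s0_0,s0_1,s0_1,s0_0,s0_1]),
  ([66,80,82,8,93,60,125,192],[s0_1,s0_0,s0_0,s0_1,s0_1,s0_1,s0_1]),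
  ([103,125,6,8,13,7,80,224],[s0_0,s0_1,s0_0,s0_1,s0_1,s0_1,s0_1]),
  ([103,115,6,8,11,7,56,225],[s0_1,s0_1,s0_0,s0_0,s0_0,s0_0,s0_0]),
  ([110,85,7,8,13,6,120,236],[s0_0,s0_1,s0_1,s0_0,s0_0,s0_1,s0_0]),
  ([45,13,88,8,2,26,12,193],[s0_1,s0_1,s0_1,s0_1,s0_0,s0_0,s0_1]),
  ([110,105,85,8,125,120,14,215],[s0_0,s0_1,s0_0,s0_1,s0_0,s0_0,s0_1]),
  ([110,52,105,8,28,14,16,222],[s0_0,s0_1,s0_0,s0_1,s0_0,s0_1,s0_1]),
  ([75,123,64,8,26,2,28,155],[s0_0,s0_0,s0_0,s0_1,s0_1,s0_0,s0_0]),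
  ([1,14,3,8,115,72,105,205],[s0_0,s0_0,s0_0,s0_1,s0_0,s0_0,s0_0]),
  ([36,60,56,8,59,115,82,133],[s0_0,s0_0,s0_1,s0_1,s0_1,s0_1,s0_1]),
  ([103,26,115,8,72,56,88,190],[s0_1,s0_1,s0_0,s0_0,s0_1,s0_0,s0_0]),
  ([1,5,3,8,112,72,40,134],[s0_0,s0_1,s0_1,s0_1,s0_1,s0_1,s0_1,s0_0]),
  ([75,64,120,8,80,85,2,210],[s0_1,s0_0,s0_0,s0_1,s0_0,s0_1,s0_0,s0_1]),
  ([36,60,12,8,7,13,82,235],[s0_1,s0_0,s0_1,s0_0,s0_1,s0_0,s0_0,s0_1]),
  ([36,56,12,8,11,13,115,234],[s0_0,s0_1,s0_0,s0_1,s0_0,s0_1,s0_1,s0_0]),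
  ([110,85,105,8,117,14,120,185],[s0_0,s0_0,s0_1,s0_1,s0_0,s0_1,s0_0,s0_1]),
  ([1,4,2,8,24,64,32,129],[s0_0,s0_0,s0_0,s0_0,s0_0,s0_1,s0_1,s0_0]),
  ([110,85,52,8,32,16,120,148],[s0_0,s0_1,s0_1,s0_0,s0_0,s0_0,s0_0,s0_0]),
  ([36,12,28,8,14,123,13,194],[s0_0,s0_1,s0_0,s0_0,s0_1,s0_1,s0_1,s0_1]),
  ([66,80,16,8,32,52,125,144],[s0_0,s0_0,s0_0,s0_1,s0_1,s0_0,s0_1,s0_0]),
  ([45,32,88,8,24,26,4,153],[s0_0,s0_0,s0_0,s0_0,s0_1,s0_1,s0_0,s0_1]),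
  ([75,64,123,8,18,28,2,208],[s0_0,s0_1,s0_1,s0_0,s0_1,s0_0,s0_1,s0_0])]

def W0 : List (ℕ × List (List ℕ)) := [
  (8,[]), (9,[g0]), (74,[g3]), (44,[g4]), (73,[g0,g3]), (95,[g0,g4]), (67,[g0,g5]), (126,[g3,g4]),
  (41,[g4,g0]), (37,[g4,g1]), (65,[g0,g3,g2]), (159,[g0,g3,g4]), (220,[g0,g4,g0]), (30,[g0,g4,g1]),
  (118,[g0,g4,g2]), (33,[g0,g4,g5]), (249,[g3,g4,g0]), (55,[g3,g4,g1]), (87,[g3,g4,g2]),
  (111,[g4,g0,g4]), (179,[g0,g3,g2,g4]), (186,[g0,g3,g4,g2]), (240,[g0,g4,g0,g2]),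
  (104,[g0,g4,g0,g4]), (63,[g0,g4,g1,g2]), (102,[g0,g4,g2,g3]), (213,[g3,g4,g0,g2]),
  (22,[g3,g4,g1,g2]), (150,[g0,g3,g2,g4,g2]), (96,[g0,g4,g0,g2,g3])]

def t0 : PtData where
  r := 8
  T := T0
  S := [s0_0, s0_1]
  L := L0
  W := W0
  C := [([g1,g5], [g5,g1])]

theorem check0 : PtCheck (confK4.X ++ confK4.N ++ confK4.M) (confK4.X ++ confK4.N) t0 := by
  constructor <;> decide +kernel

theorem cover : ∀ n ∈ List.range 256, n ≠ 0 → qs (vec n) = 0 → n ∈ orb ∨ n ∈ t0.W.map (fun w => w.1) := by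
  decide +kernel

/-- every conjugate of `z` in `Q` lies over a point of `orb` -/
theorem pts [Finite G] (p : Pair Q z A a) (φ : Coord p.lz) (hc : IsConf p φ confK4) (x : Q)
    (hx : IsConj z (x : G)) (hx0 : p.lz.pr x ≠ 0) : ∃ n ∈ orb, φ.e (p.lz.pr x) = vec n := by
  obtain ⟨n, hn, hnv⟩ := exists_code (φ.e (p.lz.pr x))
  obtain ⟨A', p', hp'⟩ := pair_of_isConj p x hx hx0
  have hq0 : qs (vec n) = 0 := by rw [← hnv, ← φ.q]; exact hp' ▸ p'.q_D p'.va_mem_D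
  have hn0 : n ≠ 0 := by
    rintro rfl
    rw [vec_zero] at hnv
    exact hx0 (φ.e.map_eq_zero_iff.1 hnv)
  rcases cover n (List.mem_range.2 hn) hn0 hq0 with h1 | h1
  · exact ⟨n, h1, hnv⟩
  · exfalso
    obtain ⟨w, hw, rfl⟩ := List.mem_map.1 h1
    exact no_pair p φ hc check0 p' ⟨w, hw, by rw [hp', hnv]⟩

end Cfsg.Agent.LargeExtra.KillNine.PtsK4
end

-- part: LargeExtra/KillNine/PtsK5
section
/-!
# The conjugates of `z` in `Q` for `confK5` (helper441, generated)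
-/

set_option autoImplicit false
set_option maxRecDepth 1000000

namespace Cfsg.Agent.LargeExtra.KillNine.PtsK5

open Cfsg.Agent.Co2Type.Quad Cfsg.Agent.LargeExtra.Base Cfsg.Agent.LargeExtra.Nine
open Cfsg.Agent.LargeExtra.KillNine.Pts Cfsg.Agent.LargeExtra.KillNine.Codes

variable {G : Type*} [Group G] {Q A : Subgroup G} {z a : G}

def g0 : List ℕ := [1,2,4,9,144,36,66,128]
def g1 : List ℕ := [1,2,5,8,80,40,64,130]
def g2 : List ℕ := [1,3,4,8,48,32,72,132]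
def g3 : List ℕ := [3,2,132,72,16,48,64,128]
def g4 : List ℕ := [5,130,4,40,16,32,80,128]
def g5 : List ℕ := [41,82,36,8,16,32,64,144]

/-- the points of `confK5` -/
def orb : List ℕ := [
    1, 2, 3, 4, 5, 8, 9, 12, 13, 16, 18, 32, 33, 36, 37, 40, 41, 44, 45, 48, 51, 64, 66, 72, 75,
    80, 82, 120, 123, 128, 130, 132, 135, 144, 146, 180, 183, 192, 194, 204, 207, 208, 210, 252, 255]

def s0_0 : List ℕ := [1,3,5,9,255,45,75,135]
def s0_1 : List ℕ := [135,5,3,255,9,75,45,1]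

def T0 : List (ℕ × List ℕ × List ℕ) := [
  (6,idL,idL), (7,[1,2,5,8,80,40,64,130],[1,2,5,8,80,40,64,130]),
  (134,[3,2,132,72,16,48,64,128],[3,2,132,72,16,48,64,128]),
  (118,[41,82,36,8,16,32,64,144],[41,82,36,8,16,32,64,144]),
  (133,[3,2,135,72,80,120,64,130],[3,2,135,72,80,120,64,130]),
  (131,[5,130,1,40,64,8,80,2],[4,128,5,32,80,40,16,130]),
  (95,[41,82,13,8,80,40,64,194],[33,18,45,8,80,40,64,210]),
  (230,[123,82,180,72,16,48,64,144],[123,82,180,72,16,48,64,144]),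
  (240,[44,208,32,9,144,36,66,16],[41,82,36,33,128,4,18,144]),
  (63,[33,18,45,8,80,40,64,210],[41,82,13,8,80,40,64,194]),
  (129,[2,3,130,64,120,80,72,135],[3,1,135,72,40,120,8,5]),
  (157,[123,82,207,72,80,120,64,194],[51,18,255,72,80,120,64,210]),
  (235,[13,194,41,40,64,8,80,82],[12,192,45,32,80,40,16,210]),
  (220,[44,208,12,9,210,45,66,192],[33,18,45,41,130,5,82,210]),
  (30,[33,18,12,8,16,32,64,192],[33,18,12,8,16,32,64,192]),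
  (224,[252,208,48,75,144,180,66,16],[123,82,180,51,128,132,18,144]),
  (237,[51,18,255,72,80,120,64,210],[123,82,207,72,80,120,64,194]),
  (186,[37,146,40,9,210,45,66,80],[41,82,13,33,146,37,18,194]),
  (155,[37,146,9,40,64,8,80,66],[36,144,13,32,80,40,16,194]),
  (103,[9,66,37,8,80,40,64,146],[9,66,37,8,80,40,64,146]),
  (185,[82,123,194,64,120,80,72,207],[51,33,255,72,40,120,8,45]),
  (28,[252,208,204,75,210,255,66,192],[51,18,255,123,130,135,82,210]),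
  (222,[51,18,204,72,16,48,64,192],[51,18,204,72,16,48,64,192]),
  (236,[12,192,44,45,66,9,210,208],[12,192,45,44,130,5,208,210]),
  (225,[12,192,33,32,64,8,16,18],[12,192,33,32,64,8,16,18]),
  (159,[37,146,13,9,144,36,66,194],[33,18,12,41,208,44,82,192]),
  (190,[37,146,44,40,16,32,80,208],[45,210,12,40,16,32,80,192]),
  (110,[9,66,44,8,16,32,64,208],[9,66,44,8,16,32,64,208]),
  (234,[183,146,120,75,210,255,66,80],[123,82,207,51,146,183,18,194]),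
  (217,[183,146,75,120,64,72,80,66],[180,144,207,48,80,120,16,194]),
  (245,[75,66,183,72,80,120,64,146],[75,66,183,72,80,120,64,146]),
  (26,[33,18,8,45,66,9,210,64],[36,144,13,4,146,37,128,194]),
  (250,[45,210,40,33,146,37,18,80],[45,210,40,33,146,37,18,80]),
  (243,[45,210,33,40,64,8,80,18],[44,208,37,32,80,40,16,146]),
  (97,[8,64,33,9,210,45,66,18],[9,66,37,1,194,13,2,146]),
  (60,[208,252,192,66,255,210,75,204],[51,33,255,123,5,135,41,45]),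
  (93,[183,146,207,75,144,180,66,194],[51,18,204,123,208,252,82,192]),
  (231,[13,194,37,36,66,9,144,146],[12,192,33,44,82,41,208,18]),
  (59,[33,18,41,45,144,36,210,82],[45,210,12,5,208,44,130,192]),
  (215,[45,210,5,33,128,4,18,130],[36,144,32,41,208,44,82,16]),
  (105,[8,64,41,9,144,36,66,82],[9,66,44,1,192,12,2,208]),
  (90,[51,18,72,255,66,75,210,64],[180,144,207,132,146,183,128,194]),
  (170,[255,210,120,51,146,183,18,80],[255,210,120,51,146,183,18,80]),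
  (115,[72,64,51,75,210,255,66,18],[75,66,183,3,194,207,2,146]),
  (74,[9,66,8,37,18,33,146,64],[5,130,40,4,146,37,128,80]),
  (125,[40,80,45,37,18,33,146,210],[45,210,40,12,194,13,192,80]),
  (176,[36,144,32,41,208,44,82,16],[45,210,5,33,128,4,18,130]),
  (117,[40,80,37,45,66,9,210,146],[44,208,37,12,194,13,192,146]),
  (73,[8,64,9,33,146,37,18,66],[5,130,40,1,194,13,2,80]),
  (85,[255,210,135,51,128,132,18,130],[180,144,48,123,208,252,82,16]),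
  (175,[5,130,45,4,18,33,128,210],[9,66,8,44,82,41,208,64]),
  (67,[9,66,1,37,128,4,146,2],[4,128,32,5,208,44,130,16]),
  (148,[36,144,4,41,130,5,82,128],[36,144,4,41,130,5,82,128]),
  (65,[8,64,1,33,128,4,18,2],[4,128,32,1,192,12,2,16]),
  (10,[75,66,72,183,18,51,146,64],[135,130,120,132,146,183,128,80]),
  (160,[180,144,48,123,208,252,82,16],[255,210,135,51,128,132,18,130]),
  (11,[72,64,75,51,146,183,18,66],[135,130,120,3,194,207,2,80]),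
  (52,[32,16,36,44,82,41,208,144],[45,210,5,12,2,1,192,130]),
  (20,[180,144,132,123,130,135,82,128],[180,144,132,123,130,135,82,128]),
  (164,[4,128,36,5,82,41,130,144],[9,66,1,44,130,5,208,2])]

def L0 : List (List ℕ × List (List ℕ)) := [
  (idL,[]), ([1,3,5,9,255,45,75,135],[s0_0]), ([135,5,3,255,9,75,45,1],[s0_1]),
  ([128,4,2,16,8,64,32,1],[s0_1,s0_0]), ([135,130,132,120,16,48,80,128],[s0_0,s0_1]),
  ([128,132,130,16,120,80,48,135],[s0_1,s0_1]),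
  ([135,130,132,255,144,180,210,128],[s0_1,s0_1,s0_0]), ([1,2,4,9,144,36,66,128],[s0_1,s0_1,s0_1]),
  ([128,4,2,144,9,66,36,1],[s0_0,s0_1,s0_1]), ([128,132,130,144,255,210,180,135],[s0_0,s0_1,s0_0]),
  ([1,3,5,8,120,40,72,135],[s0_0,s0_1,s0_1,s0_1]), ([135,5,3,120,8,72,40,1],[s0_0,s0_1,s0_1,s0_0])]

def W0 : List (ℕ × List (List ℕ)) := [
  (6,[]), (7,[g1]), (134,[g3]), (118,[g5]), (133,[g1,g3]), (131,[g1,g4]), (95,[g1,g5]),
  (230,[g3,g5]), (240,[g5,g0]), (63,[g5,g1]), (129,[g1,g3,g2]), (157,[g1,g3,g5]), (235,[g1,g4,g5]),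
  (220,[g1,g5,g0]), (30,[g1,g5,g1]), (224,[g3,g5,g0]), (237,[g3,g5,g1]), (186,[g5,g0,g1]),
  (155,[g5,g1,g4]), (103,[g5,g1,g5]), (185,[g1,g3,g2,g5]), (28,[g1,g3,g5,g0]), (222,[g1,g3,g5,g1]),
  (236,[g1,g4,g5,g0]), (225,[g1,g4,g5,g1]), (159,[g1,g5,g0,g1]), (190,[g1,g5,g1,g4]),
  (110,[g1,g5,g1,g5]), (234,[g3,g5,g0,g1]), (217,[g3,g5,g1,g4]), (245,[g3,g5,g1,g5]),
  (26,[g5,g0,g1,g4]), (250,[g5,g0,g1,g5]), (243,[g5,g1,g4,g5]), (97,[g5,g1,g5,g0]),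
  (60,[g1,g3,g2,g5,g0]), (93,[g1,g3,g5,g0,g1]), (231,[g1,g4,g5,g0,g1]), (59,[g1,g5,g0,g1,g4]),
  (215,[g1,g5,g0,g1,g5]), (105,[g1,g5,g1,g5,g0]), (90,[g3,g5,g0,g1,g4]), (170,[g3,g5,g0,g1,g5]),
  (115,[g3,g5,g1,g5,g0]), (74,[g5,g0,g1,g4,g5]), (125,[g5,g0,g1,g5,g0]), (176,[g5,g0,g1,g5,g1]),
  (117,[g5,g1,g4,g5,g0]), (73,[g5,g1,g5,g0,g5]), (85,[g1,g3,g5,g0,g1,g5]),
  (175,[g1,g4,g5,g0,g1,g5]), (67,[g1,g5,g0,g1,g4,g5]), (148,[g1,g5,g0,g1,g5,g1]),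
  (65,[g1,g5,g1,g5,g0,g5]), (10,[g3,g5,g0,g1,g4,g5]), (160,[g3,g5,g0,g1,g5,g1]),
  (11,[g3,g5,g1,g5,g0,g5]), (52,[g5,g0,g1,g5,g0,g1]), (20,[g1,g3,g5,g0,g1,g5,g1]),
  (164,[g1,g4,g5,g0,g1,g5,g1])]

def t0 : PtData where
  r := 6
  T := T0
  S := [s0_0, s0_1]
  L := L0
  W := W0
  C := [([g1,g2], [g1,g2])]

theorem check0 : PtCheck (confK5.X ++ confK5.N ++ confK5.M) (confK5.X ++ confK5.N) t0 := by
  constructor <;> decide +kernel

def s1_0 : List ℕ := [207,13,123,120,8,72,40,41]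
def s1_1 : List ℕ := [1,3,8,5,123,41,135,72]

def T1 : List (ℕ × List ℕ × List ℕ) := [
  (14,idL,idL), (15,[1,2,4,9,144,36,66,128],[1,2,4,9,144,36,66,128]),
  (206,[3,2,132,72,16,48,64,128],[3,2,132,72,16,48,64,128]),
  (174,[5,130,4,40,16,32,80,128],[5,130,4,40,16,32,80,128]),
  (126,[41,82,36,8,16,32,64,144],[41,82,36,8,16,32,64,144]),
  (205,[3,2,132,75,144,180,66,128],[3,2,132,75,144,180,66,128]),
  (171,[5,130,4,45,144,36,210,128],[5,130,4,45,144,36,210,128]),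
  (87,[41,82,36,33,128,4,18,144],[44,208,32,9,144,36,66,16]),
  (195,[2,3,128,64,48,16,72,132],[3,1,132,72,32,48,8,4]),
  (165,[4,128,5,32,80,40,16,130],[5,130,1,40,64,8,80,2]),
  (249,[44,208,32,9,144,36,66,16],[41,82,36,33,128,4,18,144]),
  (55,[33,18,45,8,80,40,64,210],[41,82,13,8,80,40,64,194]),
  (193,[2,3,128,66,180,144,75,132],[3,1,132,75,36,180,9,4]),
  (213,[123,82,180,51,128,132,18,144],[252,208,48,75,144,180,66,16]),
  (161,[4,128,5,36,210,45,144,130],[5,130,1,45,66,9,210,2]),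
  (22,[33,18,45,41,130,5,82,210],[44,208,12,9,210,45,66,192]),
  (189,[36,144,13,32,80,40,16,194],[37,146,9,40,64,8,80,66]),
  (179,[37,146,40,9,210,45,66,80],[41,82,13,33,146,37,18,194]),
  (111,[9,66,37,8,80,40,64,146],[9,66,37,8,80,40,64,146]),
  (150,[51,18,255,123,130,135,82,210],[252,208,204,75,210,255,66,192]),
  (153,[36,144,13,4,146,37,128,194],[33,18,8,45,66,9,210,64]),
  (102,[9,66,37,1,194,13,2,146],[8,64,33,9,210,45,66,18]),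
  (56,[32,16,12,36,210,45,144,192],[37,146,9,13,2,1,194,66]),
  (246,[45,210,12,40,16,32,80,192],[37,146,44,40,16,32,80,208]),
  (219,[45,210,40,33,146,37,18,80],[45,210,40,33,146,37,18,80]),
  (104,[8,64,33,9,210,45,66,18],[9,66,37,1,194,13,2,146]),
  (24,[32,16,12,4,18,33,128,192],[33,18,8,12,2,1,192,64]),
  (96,[8,64,33,1,192,12,2,18],[8,64,33,1,192,12,2,18]),
  (112,[40,80,13,45,144,36,210,194],[37,146,44,13,192,12,194,208]),
  (88,[40,80,45,37,18,33,146,210],[45,210,40,12,194,13,192,80])]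

def L1 : List (List ℕ × List (List ℕ)) := [
  (idL,[]), ([1,3,8,5,123,41,135,72],[s1_1]), ([207,13,123,120,8,72,40,41],[s1_0]),
  ([192,204,210,16,120,80,48,255],[s1_0,s1_0]), ([192,12,210,208,5,130,44,45],[s1_0,s1_1]),
  ([1,2,5,9,210,45,66,130],[s1_1,s1_1]), ([207,194,120,180,210,255,144,80],[s1_1,s1_0]),
  ([207,13,180,183,4,132,37,36],[s1_1,s1_1,s1_0]), ([1,3,4,9,180,36,75,132],[s1_0,s1_1,s1_0]),
  ([207,194,183,123,208,252,82,146],[s1_0,s1_0,s1_1]),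
  ([192,204,208,18,183,146,51,252],[s1_1,s1_0,s1_1]),
  ([192,12,16,18,4,128,33,32],[s1_1,s1_0,s1_0]), ([207,13,183,180,9,75,36,37],[s1_0,s1_1,s1_1]),
  ([1,3,9,4,183,37,132,75],[s1_1,s1_1,s1_1]),
  ([192,204,16,210,180,144,255,48],[s1_0,s1_0,s1_1,s1_1]),
  ([192,12,18,16,8,64,32,33],[s1_1,s1_1,s1_0,s1_1]),
  ([207,194,123,183,18,51,146,82],[s1_0,s1_1,s1_0,s1_0]),
  ([1,2,8,4,18,33,128,64],[s1_0,s1_1,s1_0,s1_1]),
  ([192,12,208,210,9,66,45,44],[s1_0,s1_0,s1_1,s1_0]),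
  ([192,204,18,208,123,82,252,51],[s1_1,s1_1,s1_0,s1_0]),
  ([207,194,180,120,16,48,80,144],[s1_1,s1_0,s1_1,s1_1]),
  ([1,2,9,5,208,44,130,66],[s1_1,s1_0,s1_1,s1_0]),
  ([207,13,120,123,5,135,41,40],[s1_0,s1_1,s1_0,s1_1,s1_0]),
  ([1,3,5,8,120,40,72,135],[s1_0,s1_1,s1_0,s1_1,s1_1])]

def W1 : List (ℕ × List (List ℕ)) := [
  (14,[]), (15,[g0]), (206,[g3]), (174,[g4]), (126,[g5]), (205,[g0,g3]), (171,[g0,g4]),
  (87,[g0,g5]), (195,[g3,g2]), (165,[g4,g1]), (249,[g5,g0]), (55,[g5,g1]), (193,[g0,g3,g2]),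
  (213,[g0,g3,g5]), (161,[g0,g4,g1]), (22,[g0,g5,g1]), (189,[g4,g1,g5]), (179,[g5,g0,g1]),
  (111,[g5,g1,g5]), (150,[g0,g3,g5,g1]), (153,[g0,g4,g1,g5]), (102,[g0,g5,g1,g5]),
  (56,[g4,g1,g5,g0]), (246,[g4,g1,g5,g1]), (219,[g5,g0,g1,g5]), (104,[g5,g1,g5,g0]),
  (24,[g0,g4,g1,g5,g0]), (96,[g0,g5,g1,g5,g0]), (112,[g4,g1,g5,g0,g1]), (88,[g5,g0,g1,g5,g0])]

def t1 : PtData where
  r := 14
  T := T1
  S := [s1_0, s1_1]
  L := L1
  W := W1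
  C := [([g0,g2], [g0,g2])]

theorem check1 : PtCheck (confK5.X ++ confK5.N ++ confK5.M) (confK5.X ++ confK5.N) t1 := by
  constructor <;> decide +kernel

theorem cover : ∀ n ∈ List.range 256, n ≠ 0 → qs (vec n) = 0 → n ∈ orb ∨ n ∈ t0.W.map (fun w => w.1) ∨ n ∈ t1.W.map (fun w => w.1) := by
  decide +kernel

/-- every conjugate of `z` in `Q` lies over a point of `orb` -/
theorem pts [Finite G] (p : Pair Q z A a) (φ : Coord p.lz) (hc : IsConf p φ confK5) (x : Q)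
    (hx : IsConj z (x : G)) (hx0 : p.lz.pr x ≠ 0) : ∃ n ∈ orb, φ.e (p.lz.pr x) = vec n := by
  obtain ⟨n, hn, hnv⟩ := exists_code (φ.e (p.lz.pr x))
  obtain ⟨A', p', hp'⟩ := pair_of_isConj p x hx hx0
  have hq0 : qs (vec n) = 0 := by rw [← hnv, ← φ.q]; exact hp' ▸ p'.q_D p'.va_mem_D
  have hn0 : n ≠ 0 := by
    rintro rfl
    rw [vec_zero] at hnv
    exact hx0 (φ.e.map_eq_zero_iff.1 hnv)
  rcases cover n (List.mem_range.2 hn) hn0 hq0 with h1 | h1 | h1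
  · exact ⟨n, h1, hnv⟩
  · exfalso
    obtain ⟨w, hw, rfl⟩ := List.mem_map.1 h1
    exact no_pair p φ hc check0 p' ⟨w, hw, by rw [hp', hnv]⟩
  · exfalso
    obtain ⟨w, hw, rfl⟩ := List.mem_map.1 h1
    exact no_pair p φ hc check1 p' ⟨w, hw, by rw [hp', hnv]⟩

end Cfsg.Agent.LargeExtra.KillNine.PtsK5
end

-- part: LargeExtra/KillNine/Final
section
/-!
# The configurations k2, k3, k4, k5 of S1763 do not occur (helper441)
-/

set_option autoImplicit false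
set_option maxRecDepth 100000

namespace Cfsg.Agent.LargeExtra.KillNine.Final

open Cfsg.Agent.Co2Type.Quad Cfsg.Agent.LargeExtra.Base Cfsg.Agent.LargeExtra.Nine
open Cfsg.Agent.LargeExtra.KillNine

variable {G : Type*} [Group G] {Q A : Subgroup G} {z a : G}

theorem killK2 [Finite G] (p : Pair Q z A a) (φ : Coord p.lz) (hc : IsConf p φ confK2) : False := by
  have h : ∀ n ∈ PtsK2.orb, n ∈ Kills.orbK2 := by decide +kernel
  refine Kills.killK2 p φ hc fun x hx hx0 => ?_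
  obtain ⟨n, hn, hnv⟩ := PtsK2.pts p φ hc x hx hx0
  exact ⟨n, h n hn, hnv⟩

theorem killK3 [Finite G] (p : Pair Q z A a) (φ : Coord p.lz) (hc : IsConf p φ confK3) : False := by
  have h : ∀ n ∈ PtsK3.orb, n ∈ Kills.orbK3 := by decide +kernel
  refine Kills.killK3 p φ hc fun x hx hx0 => ?_
  obtain ⟨n, hn, hnv⟩ := PtsK3.pts p φ hc x hx hx0
  exact ⟨n, h n hn, hnv⟩

theorem killK4 [Finite G] (p : Pair Q z A a) (φ : Coord p.lz) (hc : IsConf p φ confK4) : False := by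
  have h : ∀ n ∈ PtsK4.orb, n ∈ Kills.orbK4 := by decide +kernel
  refine Kills.killK4 p φ hc fun x hx hx0 => ?_
  obtain ⟨n, hn, hnv⟩ := PtsK4.pts p φ hc x hx hx0
  exact ⟨n, h n hn, hnv⟩

theorem killK5 [Finite G] (p : Pair Q z A a) (φ : Coord p.lz) (hc : IsConf p φ confK5) : False := by
  have h : ∀ n ∈ PtsK5.orb, n ∈ Kills.orbK5 := by decide +kernel
  refine Kills.killK5 p φ hc fun x hx hx0 => ?_
  obtain ⟨n, hn, hnv⟩ := PtsK5.pts p φ hc x hx hx0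
  exact ⟨n, h n hn, hnv⟩

end Cfsg.Agent.LargeExtra.KillNine.Final
end
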